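import Groth.Agent.EtShDesc.Local
import Groth.Agent.EtShSep.Henselian
import Groth.Agent.EtShSep.ULoc
import Groth.Agent.EtShSep.Discrete
import Groth.Agent.EtShSep.LocAcyclic

/-!
Effective descent for surjective integral morphisms, surjections to discrete schemes, flat morphisms with separable fibres.
-/

set_option autoImplicit false
set_option backward.isDefEq.respectTransparency false
set_option backward.isDefEq.respectTransparency.types false
set_option maxHeartbeats 1000000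
set_option linter.style.haveILetI false
set_option linter.unusedSectionVars false

universe u

open CategoryTheory CategoryTheory.Limits AlgebraicGeometry Opposite

noncomputable section

namespace Groth.Agent.EtShDesc

open Groth.Agent.EtShLib Groth.Agent.EtShSep

/-- every base change is a quotient map -/
abbrev UQ {X Y : Scheme.{u}} (q : X ⟶ Y) : Prop :=
  ∀ (Z : Scheme.{u}) (t : Z ⟶ Y), Topology.IsQuotientMap (pullback.snd q t)

theorem uq_of_closed {X Y : Scheme.{u}} (q : X ⟶ Y) [UniversallyClosed q] [Surjective q] : UQ q := fun Z t =>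
  IsClosedMap.isQuotientMap (pullback.snd q t).isClosedMap (pullback.snd q t).continuous (pullback.snd q t).surjective

theorem uq_of_open {X Y : Scheme.{u}} (q : X ⟶ Y) [UniversallyOpen q] [Surjective q] : UQ q := fun Z t =>
  IsOpenMap.isQuotientMap (pullback.snd q t).isOpenMap (pullback.snd q t).continuous (pullback.snd q t).surjective

theorem uq_comp {X Y Z : Scheme.{u}} {a : X ⟶ Y} {b : Y ⟶ Z} (ha : UQ a) (hb : UQ b) : UQ (a ≫ b) := by
  intro T t
  have h := (IsPullback.of_hasPullback a (pullback.fst b t)).paste_vert (IsPullback.of_hasPullback b t)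
  rw [← h.isoPullback_inv_snd]
  exact ((hb T t).comp (ha _ _)).comp h.isoPullback.inv.homeomorph.isQuotientMap

theorem uloc_of_isPullback {X Y X₁ Y₁ : Scheme.{u}} {g : X ⟶ Y} (hg : EtAcyc.IsULocZeroAcyclic g) {g₁ : X₁ ⟶ Y₁}
    {b' : X₁ ⟶ X} {b : Y₁ ⟶ Y} (h : IsPullback b' g₁ g b) : EtAcyc.IsULocZeroAcyclic g₁ :=
  fun _ _ g₂ c' c hc => hg g₂ (c' ≫ b') (c ≫ b) (hc.paste_horiz h)

variable {B X' : Scheme.{u}} (f : X' ⟶ B)

/-- **effectivity from charts over the base** -/
theorem isEffective_of_charts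
    (H : ∀ p : B, ∃ (O : B.Opens) (W : Scheme.{u}) (q : W ⟶ (O : Scheme.{u})) (j : W ⟶ X'),
      p ∈ O ∧ j ≫ f = q ≫ O.ι ∧ UQ q ∧
        (∀ G : EtDesc.Sh W, IsIso (EtBC.baseChange0Sh q (pullback.snd f O.ι) (pullback.snd q (pullback.snd f O.ι))
          (pullback.fst q (pullback.snd f O.ι)) pullback.condition G)) ∧
        (∀ G : EtDesc.Sh (pullback q q), IsIso (EtBC.baseChange0Sh (pullback.fst q q ≫ q) (pullback.snd f O.ι)
          (pullback.snd (pullback.fst q q ≫ q) (pullback.snd f O.ι))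
          (pullback.fst (pullback.fst q q ≫ q) (pullback.snd f O.ι)) pullback.condition G)))
    (F' : EtDesc.Sh X') (φ : (EtDesc.pullSh (pullback.fst f f)).obj F' ≅ (EtDesc.pullSh (pullback.snd f f)).obj F')
    (hφ : EtDesc.IsCocycle F' φ) : EtDesc.IsEffective f F' φ := by
  choose O W q j hp hj hq hBC hBC₂ using H
  refine isEffective_of_local F' φ hφ (fun Y t => ?_) fun V t v => ?_
  · have key : ∀ y : Y, ∀ z : ↥(pullback (q (t y)) (pullback.snd t (O (t y)).ι)),
        pullback.snd f t (pullback.lift (pullback.fst (q (t y)) (pullback.snd t (O (t y)).ι) ≫ j (t y))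
          (pullback.snd (q (t y)) (pullback.snd t (O (t y)).ι) ≫ pullback.fst t (O (t y)).ι)
          (by rw [Category.assoc, Category.assoc, hj, pullback.condition, pullback.condition_assoc]) z) =
          pullback.fst t (O (t y)).ι (pullback.snd (q (t y)) (pullback.snd t (O (t y)).ι) z) := by
      intro y z
      rw [← Scheme.Hom.comp_apply, pullback.lift_snd, Scheme.Hom.comp_apply]
    have hrange : ∀ y : Y, y ∈ Set.range (pullback.fst t (O (t y)).ι) := fun y => by
      obtain ⟨o, ho⟩ := (Scheme.Opens.range_ι (O (t y))).ge (hp (t y))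
      obtain ⟨z, hz, -⟩ := Scheme.Pullback.exists_preimage_pullback (f := t) (g := (O (t y)).ι) y o ho.symm
      exact ⟨z, hz⟩
    have hsurj : Function.Surjective (pullback.snd f t) := fun y => by
      obtain ⟨z, hz⟩ := hrange y
      obtain ⟨w, hw⟩ := (hq (t y) _ (pullback.snd t (O (t y)).ι)).surjective z
      exact ⟨_, (key y w).trans ((congrArg (pullback.fst t (O (t y)).ι) hw).trans hz)⟩
    refine ⟨Topology.isCoinducing_iff.mpr fun s => ⟨fun h => ?_, fun h => h.preimage (pullback.snd f t).continuous⟩, hsurj⟩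
    refine isOpen_iff_forall_mem_open.mpr fun y hy => ?_
    let e := pullback.fst t (O (t y)).ι
    have ho : IsOpen (e ⁻¹' s) := by
      refine (hq (t y) _ (pullback.snd t (O (t y)).ι)).isOpen_preimage.mp ?_
      let l := pullback.lift (pullback.fst (q (t y)) (pullback.snd t (O (t y)).ι) ≫ j (t y))
          (pullback.snd (q (t y)) (pullback.snd t (O (t y)).ι) ≫ e)
          (show _ ≫ f = _ ≫ t by rw [Category.assoc, Category.assoc, hj, pullback.condition, pullback.condition_assoc])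
      convert h.preimage l.continuous using 1
      ext z
      exact Iff.of_eq (congrArg (· ∈ s) (key y z)).symm
    exact ⟨e '' (e ⁻¹' s), Set.image_preimage_subset _ _, e.isOpenEmbedding.isOpenMap _ ho,
      (hrange y).elim fun z hz => ⟨z, by rw [Set.mem_preimage, hz]; exact hy, hz⟩⟩
  · exact exists_desc_chart F' φ hφ (O (f (V.hom v))).ι (q _) (j _) (hj _) (hq _) (hBC _ _) (hBC₂ _ _) V t v
      ((Scheme.Opens.range_ι _).ge (hp (f (V.hom v))))

/-- **effective descent along surjective integral morphisms** -/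
theorem isEffective_integral [Surjective f] [IsIntegralHom f] (F' : EtDesc.Sh X')
    (φ : (EtDesc.pullSh (pullback.fst f f)).obj F' ≅ (EtDesc.pullSh (pullback.snd f f)).obj F')
    (hφ : EtDesc.IsCocycle F' φ) : EtDesc.IsEffective f F' φ := by
  refine isEffective_of_charts f (fun p => ⟨⊤, pullback f (⊤ : B.Opens).ι, pullback.snd f (⊤ : B.Opens).ι,
    pullback.fst f (⊤ : B.Opens).ι, trivial, pullback.condition, uq_of_closed _, fun G => ?_, fun G => ?_⟩) F' φ hφ
  · exact isIso_baseChange0Sh_integral _ _ _ _ (IsPullback.of_hasPullback _ _) G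
  · exact isIso_baseChange0Sh_integral _ _ _ _ (IsPullback.of_hasPullback _ _) G

/-- charts for a base change -/
theorem isEffective_of_uloc_charts {X Y : Scheme.{u}} {g : X ⟶ Y} (hg : EtAcyc.IsULocZeroAcyclic g)
    (H : ∀ y : Y, ∃ (O : Y.Opens) (W : Scheme.{u}) (q : W ⟶ (O : Scheme.{u})) (j : W ⟶ X),
      y ∈ O ∧ j ≫ g = q ≫ O.ι ∧ UQ q ∧ QuasiCompact q ∧ QuasiSeparated q)
    {b' : X' ⟶ X} {b : B ⟶ Y} (hP : IsPullback b' f g b)
    (F' : EtDesc.Sh X') (φ : (EtDesc.pullSh (pullback.fst f f)).obj F' ≅ (EtDesc.pullSh (pullback.snd f f)).obj F')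
    (hφ : EtDesc.IsCocycle F' φ) : EtDesc.IsEffective f F' φ := by
  refine isEffective_of_charts f (fun p => ?_) F' φ hφ
  obtain ⟨O₀, W₀, q₀, j₀, hy, hj₀, hq₀, hqc, hqs⟩ := H (b p)
  let O : B.Opens := b ⁻¹ᵁ O₀
  let q : pullback q₀ (b ∣_ O₀) ⟶ (O : Scheme.{u}) := pullback.snd q₀ (b ∣_ O₀)
  have hw : (pullback.fst q₀ (b ∣_ O₀) ≫ j₀) ≫ g = (q ≫ O.ι) ≫ b := by
    rw [Category.assoc, hj₀, pullback.condition_assoc, Category.assoc]
    exact congrArg (pullback.snd q₀ (b ∣_ O₀) ≫ ·) (morphismRestrict_ι b O₀)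
  have hr : EtAcyc.IsULocZeroAcyclic (pullback.snd f O.ι) :=
    uloc_of_isPullback (uloc_of_isPullback hg hP) (IsPullback.of_hasPullback f O.ι)
  haveI : QuasiCompact q := inferInstanceAs (QuasiCompact (pullback.snd q₀ (b ∣_ O₀)))
  haveI : QuasiSeparated q := inferInstanceAs (QuasiSeparated (pullback.snd q₀ (b ∣_ O₀)))
  haveI : QuasiCompact (pullback.fst q q ≫ q) := inferInstance
  haveI : QuasiSeparated (pullback.fst q q ≫ q) := inferInstance
  exact ⟨O, _, q, hP.lift _ _ hw, hy, hP.lift_snd _ _ _,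
    univQuot_of_isPullback hq₀ (IsPullback.of_hasPullback q₀ (b ∣_ O₀)),
    fun G => isIso_baseChange0Sh_uloc _ _ _ _ (IsPullback.of_hasPullback _ _) hr G,
    fun G => isIso_baseChange0Sh_uloc _ _ _ _ (IsPullback.of_hasPullback _ _) hr G⟩

theorem exists_chart_discrete {X Y : Scheme.{u}} (g : X ⟶ Y) [Surjective g] [DiscreteTopology Y] (y : Y) :
    ∃ (O : Y.Opens) (W : Scheme.{u}) (q : W ⟶ (O : Scheme.{u})) (j : W ⟶ X),
      y ∈ O ∧ j ≫ g = q ≫ O.ι ∧ UQ q ∧ QuasiCompact q ∧ QuasiSeparated q := by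
  obtain ⟨x, rfl⟩ := g.surjective y
  let O : Y.Opens := ⟨{g x}, isOpen_discrete _⟩
  haveI : IsAffine (O : Scheme.{u}) := by
    obtain ⟨V, hV, hxV, hVO⟩ := TopologicalSpace.Opens.isBasis_iff_nbhd.mp Y.isBasis_affineOpens
      (show g x ∈ O from Set.mem_singleton (g x))
    have e : V = O := le_antisymm hVO fun z hz => (Set.mem_singleton_iff.mp hz) ▸ hxV
    exact e ▸ hV
  have hr : Set.range (Y.fromSpecResidueField (g x)) ⊆ Set.range O.ι := by
    rw [Scheme.range_fromSpecResidueField, Scheme.Opens.range_ι]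
    exact subset_rfl
  let c : Spec (Y.residueField (g x)) ⟶ (O : Scheme.{u}) := IsOpenImmersion.lift O.ι (Y.fromSpecResidueField (g x)) hr
  have hc : c ≫ O.ι = Y.fromSpecResidueField (g x) := IsOpenImmersion.lift_fac _ _ _
  haveI : Subsingleton (O : Scheme.{u}) := ⟨fun a b => O.ι.isOpenEmbedding.injective
    (((Scheme.Opens.range_ι O).le ⟨a, rfl⟩ : O.ι a = g x).trans ((Scheme.Opens.range_ι O).le ⟨b, rfl⟩ : O.ι b = g x).symm)⟩
  haveI : Surjective c := ⟨fun o => ⟨default, Subsingleton.elim _ _⟩⟩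
  haveI : IsPreimmersion c := by
    haveI : IsPreimmersion (c ≫ O.ι) := by rw [hc]; infer_instance
    exact IsPreimmersion.of_comp c O.ι
  haveI : IsClosedImmersion c := IsClosedImmersion.of_isPreimmersion c (by
    rw [Set.range_eq_univ.mpr c.surjective]; exact isClosed_univ)
  let a : Spec (X.residueField x) ⟶ Spec (Y.residueField (g x)) := Spec.map (g.residueFieldMap x)
  haveI : Flat a := by
    rw [HasRingHomProperty.Spec_iff (P := @Flat)]
    letI := (g.residueFieldMap x).hom.toAlgebra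
    show Module.Flat (Y.residueField (g x)) (X.residueField x)
    infer_instance
  haveI : Surjective a := ⟨fun o => ⟨default, Subsingleton.elim _ _⟩⟩
  refine ⟨O, _, a ≫ c, X.fromSpecResidueField x, rfl, ?_, uq_comp (fun Z t => isQuotientMap_snd_of_flat a Z t)
    (uq_of_closed c), inferInstance, inferInstance⟩
  rw [Category.assoc, hc]
  exact (Scheme.Hom.SpecMap_residueFieldMap_fromSpecResidueField g x).symm

theorem exists_chart_open {X Y : Scheme.{u}} (g : X ⟶ Y) [Surjective g] [UniversallyOpen g] (y : Y) :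
    ∃ (O : Y.Opens) (W : Scheme.{u}) (q : W ⟶ (O : Scheme.{u})) (j : W ⟶ X),
      y ∈ O ∧ j ≫ g = q ≫ O.ι ∧ UQ q ∧ QuasiCompact q ∧ QuasiSeparated q := by
  obtain ⟨x, rfl⟩ := g.surjective y
  obtain ⟨V, hV, hxV, -⟩ := TopologicalSpace.Opens.isBasis_iff_nbhd.mp Y.isBasis_affineOpens (U := (⊤ : Y.Opens))
    (show g x ∈ (⊤ : Y.Opens) from trivial)
  obtain ⟨U, hU, hxU, hUV⟩ : ∃ U : X.Opens, U ∈ X.affineOpens ∧ x ∈ U ∧ U ≤ g ⁻¹ᵁ V :=
    TopologicalSpace.Opens.isBasis_iff_nbhd.mp X.isBasis_affineOpens (show x ∈ g ⁻¹ᵁ V from hxV)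
  let O : Y.Opens := ⟨g '' U, g.isOpenMap _ U.2⟩
  have hOV : O ≤ V := by
    rintro _ ⟨z, hz, rfl⟩
    exact hUV hz
  have hr : Set.range (U.ι ≫ g) ⊆ Set.range O.ι := by
    rintro _ ⟨z, rfl⟩
    rw [Scheme.Opens.range_ι, Scheme.Hom.comp_apply]
    exact ⟨_, (Scheme.Opens.range_ι U).le ⟨z, rfl⟩, rfl⟩
  let q : (U : Scheme.{u}) ⟶ (O : Scheme.{u}) := IsOpenImmersion.lift O.ι (U.ι ≫ g) hr
  have hq : q ≫ O.ι = U.ι ≫ g := IsOpenImmersion.lift_fac _ _ _
  haveI : IsAffine (U : Scheme.{u}) := hU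
  haveI : IsAffine (V : Scheme.{u}) := hV
  haveI : IsAffineHom q := by
    haveI : IsAffineHom (q ≫ Y.homOfLE hOV) := inferInstance
    exact MorphismProperty.of_postcomp (W := @IsAffineHom) (W' := @IsSeparated) q (Y.homOfLE hOV) inferInstance ‹_›
  haveI : UniversallyOpen q := by
    have h : UniversallyOpen (q ≫ O.ι) := by rw [hq]; infer_instance
    have sq : IsPullback (𝟙 (U : Scheme.{u})) q (q ≫ O.ι) O.ι :=
      ⟨⟨by rw [Category.id_comp]⟩, ⟨PullbackCone.IsLimit.mk _ (fun c => c.fst) (fun c => Category.comp_id _)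
        (fun c => by rw [← cancel_mono O.ι, Category.assoc]; exact c.condition)
        (fun c m hm₁ hm₂ => (Category.comp_id m).symm.trans hm₁)⟩⟩
    exact MorphismProperty.of_isPullback (P := @UniversallyOpen) sq h
  haveI : Surjective q := ⟨fun o => by
    obtain ⟨z, hz, e⟩ := (Scheme.Opens.range_ι O).le ⟨o, rfl⟩
    obtain ⟨w, rfl⟩ := (Scheme.Opens.range_ι U).ge hz
    refine ⟨w, O.ι.isOpenEmbedding.injective ?_⟩
    rw [← Scheme.Hom.comp_apply, hq, Scheme.Hom.comp_apply]
    exact e⟩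
  exact ⟨O, _, q, U.ι, ⟨x, hxU, rfl⟩, hq.symm, uq_of_open q, inferInstance, inferInstance⟩

theorem exists_chart_fpqc {X Y : Scheme.{u}} (g : X ⟶ Y) [Surjective g] [Flat g] [QuasiCompact g] [QuasiSeparated g]
    (y : Y) : ∃ (O : Y.Opens) (W : Scheme.{u}) (q : W ⟶ (O : Scheme.{u})) (j : W ⟶ X),
      y ∈ O ∧ j ≫ g = q ≫ O.ι ∧ UQ q ∧ QuasiCompact q ∧ QuasiSeparated q :=
  ⟨⊤, _, pullback.snd g (⊤ : Y.Opens).ι, pullback.fst g (⊤ : Y.Opens).ι, trivial, pullback.condition,
    fun Z t => isQuotientMap_snd_of_flat _ Z t, inferInstance, inferInstance⟩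

end Groth.Agent.EtShDesc
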