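import Groth.Agent.EtShDesc.Pb
import Groth.Prelude.Def_EtBCD
import Groth.Agent.EtShLib.Nested

/-!
The base change map for sheaves of sets in terms of pulled back sections.
-/

set_option autoImplicit false
set_option backward.isDefEq.respectTransparency false
set_option backward.isDefEq.respectTransparency.types false
set_option maxHeartbeats 1000000
set_option linter.style.haveILetI false
set_option linter.unusedSectionVars false

universe u

open CategoryTheory CategoryTheory.Limits AlgebraicGeometry Opposite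

noncomputable section

namespace Groth.Agent.EtShDesc

open Groth.Agent.EtShLib Groth.Agent.EtShSep

variable {X : Scheme.{u}} (F : EtDesc.Sh X)

theorem toSec_map {T : Scheme.{u}} (u : T ⟶ X) {V V' : T.Etale} (c : V' ⟶ V) (v : V.left ⟶ X) (hv : V.hom ≫ u = v)
    (v' : V'.left ⟶ X) (hv' : V'.hom ≫ u = v') (x : EtDesc.sect ((EtDesc.pullSh u).obj F) V) :
    toSec F u V' v' hv' (((EtDesc.pullSh u).obj F).obj.map c.op x) =
      res F c.left v v' (by rw [← hv, ← hv', ← Category.assoc]; exact congrArg (· ≫ u) (MorphismProperty.Over.w c))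
        (toSec F u V v hv x) := by
  rw [res_toSec F V'.hom u v' hv' V c.left (MorphismProperty.Over.w c) v hv x]
  refine (tr_res F V'.hom u v' hv' c (δdiag V') x).trans (congrArg (fun d => tr F V'.hom u v' hv' d x) ?_)
  refine bc_ext V'.hom ?_
  rw [comp_map_fst, δdiag, mkδ_fst, mkδ_fst]
  exact Category.id_comp _

section Conv

variable {W : Scheme.{u}} (j : W ⟶ X)

theorem tr_pullVia {T T' : Scheme.{u}} (g : T' ⟶ T) (u : T ⟶ W) (v : T' ⟶ W) (hv : g ≫ u = v) (u' : T ⟶ X)
    (hu' : u ≫ j = u') (v' : T' ⟶ X) (hv' : v ≫ j = v') {V : T.Etale} {V' : T'.Etale}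
    (δ : V' ⟶ (EtCoh.bc g).obj V) (x : EtDesc.sect ((EtDesc.pullSh u).obj ((EtDesc.pullSh j).obj F)) V) :
    appH (EtDesc.pullVia v j v' hv' F).hom V' (tr ((EtDesc.pullSh j).obj F) g u v hv δ x) =
      tr F g u' v' (by rw [← hu', ← Category.assoc, hv, hv']) δ (appH (EtDesc.pullVia u j u' hu' F).hom V x) := by
  refine eq_of_eqLoc fun p => ?_
  obtain ⟨W', a, o, ε₀, s, hq, hW⟩ := exists_rep ((EtDesc.pullSh j).obj F) u x ((δ.left ≫ pullback.fst V.hom g) p)
  obtain ⟨r, hr, -⟩ := Scheme.exists_preimage_of_isPullback (EtCoh.isPullback_bc_map g a)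
    (δ.left p) _ ((Scheme.Hom.comp_apply _ _ _).symm.trans hq.choose_spec.symm)
  obtain ⟨Z, a', b', hab, hZ⟩ := exists_fibreProd δ ((EtCoh.bc g).map a)
  obtain ⟨z, hz, -⟩ := hZ p r hr.symm
  refine ⟨Z, a', ⟨z, hz⟩, ?_⟩
  rw [map_appH, map_tr, hab, ← tr_res, hW, map_tr, hab, ← tr_res, map_appH, hW]
  let ε' : Z ⟶ (EtCoh.bc v).obj o := mkδ v ((b'.left ≫ pullback.fst W'.hom g) ≫ ε₀.left ≫ pullback.fst o.hom u)
    (bc_w₂ g u v hv b' ε₀)
  rw [tr_ru ((EtDesc.pullSh j).obj F) g u v hv b' ε₀ ε' (mkδ_fst _ _ _).symm s]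
  show tr F v j v' hv' ε' s = tr F g u' v' _ b' (tr F u j u' hu' ε₀ s)
  rw [tr_tr F u g j u' hu' v' (by rw [← hu', ← Category.assoc, hv, hv']) ε₀ b' v hv ε' (mkδ_fst _ _ _).symm s]

/-- sections of a twice pulled back sheaf as sections of the sheaf -/
def conv {T : Scheme.{u}} (u : T ⟶ W) (u' : T ⟶ X) (hu : u ≫ j = u') (x : Sec ((EtDesc.pullSh j).obj F) u) : Sec F u' :=
  appH (EtDesc.pullVia u j u' hu F).hom (EtCoh.top T) x

theorem bijective_conv {T : Scheme.{u}} (u : T ⟶ W) (u' : T ⟶ X) (hu : u ≫ j = u') :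
    Function.Bijective (conv F j u u' hu) := by
  have e : conv F j u u' hu = fun x => appH (EtDesc.pullVia u j u' hu F).hom (EtCoh.top T) x := funext fun x => by rw [conv]
  rw [e]
  exact bijective_appH (EtDesc.pullVia u j u' hu F).hom (EtCoh.top T)

theorem conv_res {T T' : Scheme.{u}} (g : T' ⟶ T) (u : T ⟶ W) (v : T' ⟶ W) (hv : g ≫ u = v) (u' : T ⟶ X)
    (hu' : u ≫ j = u') (v' : T' ⟶ X) (hv' : v ≫ j = v') (x : Sec ((EtDesc.pullSh j).obj F) u) :
    conv F j v v' hv' (res ((EtDesc.pullSh j).obj F) g u v hv x) =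
      res F g u' v' (by rw [← hu', ← Category.assoc, hv, hv']) (conv F j u u' hu' x) := by
  rw [conv, conv, res, res]
  exact tr_pullVia F j g u v hv u' hu' v' hv' _ x

theorem conv_pb {T : Scheme.{u}} (u : T ⟶ W) (u' : T ⟶ X) (hu : u ≫ j = u') {o : W.Etale} (n : T ⟶ o.left)
    (w : n ≫ o.hom = u) (v : o.left ⟶ X) (hv : o.hom ≫ j = v) (s : EtDesc.sect ((EtDesc.pullSh j).obj F) o) :
    conv F j u u' hu (pb ((EtDesc.pullSh j).obj F) u n w s) =
      res F n v u' (by rw [← hv, ← Category.assoc, w, hu]) (toSec F j o v hv s) := by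
  rw [res_toSec F u j u' hu o n w v hv s, conv, pb, tr]

end Conv

section BC

variable {O W A : Scheme.{u}} (q : W ⟶ O) (r : A ⟶ O) (G : EtDesc.Sh W)

/-- the comparison on pulled back sections -/
theorem appH_bc0_ru {A₁ : A.Etale} {U : O.Etale} (ε : A₁ ⟶ (EtCoh.bc r).obj U)
    (s : EtDesc.sect G ((EtCoh.bc q).obj U)) :
    appH (EtBC.baseChange0Sh q r (pullback.snd q r) (pullback.fst q r) pullback.condition G) A₁
        (ru r ((EtDesc.pushSh q).obj G) ε s) =
      ru (pullback.fst q r) G ((EtCoh.bc (pullback.snd q r)).map ε ≫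
        Groth.Agent.EtIntegral.bcSwap q r (pullback.snd q r) (pullback.fst q r) pullback.condition U) s := by
  rw [ru, ← map_appH, appH_def, baseChange0Sh_unit, ← map_ru]
  rfl

/-- the map of nested fibre products -/
theorem bc0_comp_fst {A₁ : A.Etale} {U : O.Etale} (ε : A₁ ⟶ (EtCoh.bc r).obj U) {Z : Scheme.{u}}
    (d : Z ⟶ ((EtCoh.bc (pullback.snd q r)).obj A₁).left) :
    d ≫ ((EtCoh.bc (pullback.snd q r)).map ε ≫
        Groth.Agent.EtIntegral.bcSwap q r (pullback.snd q r) (pullback.fst q r) pullback.condition U).left ≫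
      pullback.fst ((EtCoh.bc q).obj U).hom (pullback.fst q r) ≫ pullback.fst U.hom q =
    (d ≫ pullback.fst A₁.hom (pullback.snd q r)) ≫ ε.left ≫ pullback.fst U.hom r := by
  rw [Category.assoc]
  refine congrArg (d ≫ ·) ?_
  refine (Category.assoc ((EtCoh.bc (pullback.snd q r)).map ε).left _ _).trans ?_
  rw [show pullback.fst ((EtCoh.bc q).obj U).hom (pullback.fst q r) =
    pullback.fst (pullback.snd U.hom q) (pullback.fst q r) from rfl, Groth.Agent.EtIntegral.bcSwap_fst]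
  refine (Category.assoc _ _ _).symm.trans ((congrArg (· ≫ pullback.fst U.hom r) (bc_map_fst _ ε)).trans ?_)
  exact Category.assoc _ _ _

/-- the map from a test scheme to the fibre product over the base -/
def nMap {A₁ : A.Etale} {U : O.Etale} (m : A₁.left ⟶ U.left) (hm : m ≫ U.hom = A₁.hom ≫ r) {Z : Scheme.{u}}
    (z₁ : Z ⟶ A₁.left) (z₂ : Z ⟶ pullback q r) (h : z₁ ≫ A₁.hom = z₂ ≫ pullback.snd q r) :
    Z ⟶ ((EtCoh.bc q).obj U).left :=
  pullback.lift (z₁ ≫ m) (z₂ ≫ pullback.fst q r) (by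
    rw [Category.assoc, hm, ← Category.assoc, h, Category.assoc, Category.assoc, pullback.condition])

theorem nMap_snd {A₁ : A.Etale} {U : O.Etale} (m : A₁.left ⟶ U.left) (hm : m ≫ U.hom = A₁.hom ≫ r) {Z : Scheme.{u}}
    (z₁ : Z ⟶ A₁.left) (z₂ : Z ⟶ pullback q r) (h : z₁ ≫ A₁.hom = z₂ ≫ pullback.snd q r) :
    nMap q r m hm z₁ z₂ h ≫ ((EtCoh.bc q).obj U).hom = z₂ ≫ pullback.fst q r := pullback.lift_snd _ _ _

theorem nMap_fst {A₁ : A.Etale} {U : O.Etale} (m : A₁.left ⟶ U.left) (hm : m ≫ U.hom = A₁.hom ≫ r) {Z : Scheme.{u}}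
    (z₁ : Z ⟶ A₁.left) (z₂ : Z ⟶ pullback q r) (h : z₁ ≫ A₁.hom = z₂ ≫ pullback.snd q r) :
    nMap q r m hm z₁ z₂ h ≫ pullback.fst U.hom q = z₁ ≫ m := pullback.lift_fst _ _ _

theorem toSec_bc0 {A₁ : A.Etale} {U : O.Etale} (m : A₁.left ⟶ U.left) (hm : m ≫ U.hom = A₁.hom ≫ r)
    (s : EtDesc.sect G ((EtCoh.bc q).obj U)) :
    toSec G (pullback.fst q r) ((EtCoh.bc (pullback.snd q r)).obj A₁)
        (pullback.snd A₁.hom (pullback.snd q r) ≫ pullback.fst q r) rfl
        (appH (EtBC.baseChange0Sh q r (pullback.snd q r) (pullback.fst q r) pullback.condition G) A₁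
          (ru r ((EtDesc.pushSh q).obj G) (mkδ r m hm) s)) =
      pb G (pullback.snd A₁.hom (pullback.snd q r) ≫ pullback.fst q r)
        (nMap q r m hm (pullback.fst A₁.hom (pullback.snd q r)) (pullback.snd A₁.hom (pullback.snd q r))
          pullback.condition) (nMap_snd q r m hm _ _ _) s := by
  rw [appH_bc0_ru, toSec_ru]
  refine pb_congr G _ ?_ _ s
  let δ := (EtCoh.bc (pullback.snd q r)).map (mkδ r m hm) ≫
    Groth.Agent.EtIntegral.bcSwap q r (pullback.snd q r) (pullback.fst q r) pullback.condition U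
  apply pullback.hom_ext
  · refine (Category.assoc δ.left _ _).trans (Eq.trans ?_ (nMap_fst q r m hm _ _ _).symm)
    have h := bc0_comp_fst q r (mkδ r m hm) (𝟙 _)
    rw [Category.id_comp, Category.id_comp, mkδ_fst] at h
    exact h
  · refine (bc_w (pullback.fst q r) δ).trans ?_
    exact (nMap_snd q r m hm _ _ _).symm

/-- surjectivity of the base change map, on sections -/
theorem exists_bc_preimage [IsIso (EtBC.baseChange0Sh q r (pullback.snd q r) (pullback.fst q r) pullback.condition G)]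
    (A' : A.Etale) (T : Sec G (pullback.snd A'.hom (pullback.snd q r) ≫ pullback.fst q r)) (a : A'.left) :
    ∃ (A₁ : A.Etale) (c : A₁ ⟶ A') (U : O.Etale) (m : A₁.left ⟶ U.left) (hm : m ≫ U.hom = A₁.hom ≫ r)
      (s : EtDesc.sect G ((EtCoh.bc q).obj U)), a ∈ Set.range c.left ∧
      ∀ (Z : Scheme.{u}) (z₁ : Z ⟶ A₁.left) (z₂ : Z ⟶ pullback q r) (h : z₁ ≫ A₁.hom = z₂ ≫ pullback.snd q r),
        res G (pullback.lift (z₁ ≫ c.left) z₂ (by
            rw [Category.assoc]; exact (congrArg (z₁ ≫ ·) (MorphismProperty.Over.w c)).trans h))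
          (pullback.snd A'.hom (pullback.snd q r) ≫ pullback.fst q r) (z₂ ≫ pullback.fst q r)
          (by rw [← Category.assoc, pullback.lift_snd]) T =
        pb G (z₂ ≫ pullback.fst q r) (nMap q r m hm z₁ z₂ h) (nMap_snd q r m hm z₁ z₂ h) s := by
  let bc0 := EtBC.baseChange0Sh q r (pullback.snd q r) (pullback.fst q r) pullback.condition G
  let pA := pullback.snd q r
  let pW := pullback.fst q r
  obtain ⟨T₀, rfl⟩ := (bijective_toSec G pW ((EtCoh.bc pA).obj A') (pullback.snd A'.hom pA ≫ pW) rfl).2 T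
  obtain ⟨y, rfl⟩ := (bijective_appH bc0 A').2 T₀
  obtain ⟨A₁, c, U, ε, s, ha, hy⟩ := exists_rep ((EtDesc.pushSh q).obj G) r y a
  let m := ε.left ≫ pullback.fst U.hom r
  have hε : ε = mkδ r m (bc_w r ε) := bc_ext r (mkδ_fst _ _ _).symm
  refine ⟨A₁, c, U, m, bc_w r ε, s, ha, fun Z z₁ z₂ h => ?_⟩
  let d : Z ⟶ ((EtCoh.bc pA).obj A₁).left := pullback.lift z₁ z₂ h
  have hd₁ : d ≫ pullback.fst A₁.hom pA = z₁ := pullback.lift_fst _ _ _
  have hd₂ : d ≫ pullback.snd A₁.hom pA = z₂ := pullback.lift_snd _ _ _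
  have key : toSec G pW ((EtCoh.bc pA).obj A₁) (pullback.snd A₁.hom pA ≫ pW) rfl
      (((EtDesc.pullSh pW).obj G).obj.map ((EtCoh.bc pA).map c).op (appH bc0 A' y)) =
      pb G _ (nMap q r m (bc_w r ε) (pullback.fst A₁.hom pA) (pullback.snd A₁.hom pA) pullback.condition)
        (nMap_snd q r m (bc_w r ε) _ _ _) s := by
    have e := map_appH bc0 c y
    rw [hy, hε] at e
    refine (congrArg (toSec G pW ((EtCoh.bc pA).obj A₁) (pullback.snd A₁.hom pA ≫ pW) rfl) e).trans ?_
    exact toSec_bc0 q r G m (bc_w r ε) s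
  rw [toSec_map G pW ((EtCoh.bc pA).map c) (pullback.snd A'.hom pA ≫ pW) rfl] at key
  have hd : d ≫ ((EtCoh.bc pA).map c).left = pullback.lift (z₁ ≫ c.left) z₂ (by
      rw [Category.assoc]; exact (congrArg (z₁ ≫ ·) (MorphismProperty.Over.w c)).trans h) := by
    apply pullback.hom_ext
    · rw [pullback.lift_fst, ← hd₁, Category.assoc, Category.assoc]
      exact congrArg (d ≫ ·) (bc_map_fst pA c)
    · rw [pullback.lift_snd, ← hd₂, Category.assoc]
      exact congrArg (d ≫ ·) (bc_map_snd pA c)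
  have key' := congrArg (res G d _ (z₂ ≫ pW) (by rw [← Category.assoc, hd₂])) key
  rw [res_res G _ d _ hd, res_pb] at key'
  refine key'.trans (pb_congr G _ ?_ _ s)
  apply pullback.hom_ext
  · rw [Category.assoc, nMap_fst, nMap_fst, ← Category.assoc, hd₁]
  · refine (Category.assoc _ _ _).trans ((congrArg (d ≫ ·) (nMap_snd q r m _ _ _ _)).trans ?_)
    refine (Category.assoc _ _ _).symm.trans ((congrArg (· ≫ pW) hd₂).trans ?_)
    exact (nMap_snd q r m _ _ _ _).symm

/-- injectivity of the base change map, on sections -/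
theorem mem_eqLoc_of_bc [IsIso (EtBC.baseChange0Sh q r (pullback.snd q r) (pullback.fst q r) pullback.condition G)]
    {A₁ : A.Etale} {U : O.Etale} (m : A₁.left ⟶ U.left) (hm : m ≫ U.hom = A₁.hom ≫ r)
    (s s' : EtDesc.sect G ((EtCoh.bc q).obj U))
    (h : pb G (pullback.snd A₁.hom (pullback.snd q r) ≫ pullback.fst q r)
        (nMap q r m hm (pullback.fst A₁.hom (pullback.snd q r)) (pullback.snd A₁.hom (pullback.snd q r))
          pullback.condition) (nMap_snd q r m hm _ _ _) s =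
      pb G (pullback.snd A₁.hom (pullback.snd q r) ≫ pullback.fst q r)
        (nMap q r m hm (pullback.fst A₁.hom (pullback.snd q r)) (pullback.snd A₁.hom (pullback.snd q r))
          pullback.condition) (nMap_snd q r m hm _ _ _) s') (a : A₁.left) :
    ∃ (U₁ : O.Etale) (c : U₁ ⟶ U), m a ∈ Set.range c.left ∧
      G.obj.map ((EtCoh.bc q).map c).op s = G.obj.map ((EtCoh.bc q).map c).op s' := by
  let bc0 := EtBC.baseChange0Sh q r (pullback.snd q r) (pullback.fst q r) pullback.condition G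
  rw [← toSec_bc0, ← toSec_bc0] at h
  have h1 := (bijective_appH bc0 A₁).1 ((bijective_toSec G _ _ _ rfl).1 h)
  have h2 := (mem_eqLoc_ru r ((EtDesc.pushSh q).obj G) (T := A₁) (mkδ r m hm) s s' a).mp (by
    rw [h1, eqLoc_self]; trivial)
  rw [fst_apply] at h2
  exact h2

end BC

end Groth.Agent.EtShDesc
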