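import Groth.Agent.EtShDesc.Pb

/-!
Descent of sections and of morphisms of sheaves along universally submersive morphisms.
-/

set_option autoImplicit false
set_option backward.isDefEq.respectTransparency false
set_option backward.isDefEq.respectTransparency.types false
set_option maxHeartbeats 1000000
set_option linter.style.haveILetI false
set_option linter.unusedSectionVars false

universe u

open CategoryTheory CategoryTheory.Limits AlgebraicGeometry Opposite

noncomputable section

namespace Groth.Agent.EtShDesc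

open Groth.Agent.EtShLib Groth.Agent.EtShSep

variable {X : Scheme.{u}} (F : EtDesc.Sh X)

theorem secPull_eq {T : Scheme.{u}} (g : T ⟶ X) (s : EtDesc.sect F (EtCoh.top X)) :
    EtDesc.secPull g F s = pb F g (o := EtCoh.top X) g (Category.comp_id g) s := by
  rw [pb, ru]
  exact congrArg (fun d : EtCoh.top T ⟶ (EtCoh.bc g).obj (EtCoh.top X) =>
    ((EtDesc.pullSh g).obj F).obj.map d.op (unitSect g F (EtCoh.top X) s))
    ((EtCore.bcTopIsTerminal g).hom_ext _ _)

theorem bijective_pb (V : X.Etale) : Function.Bijective (pb F V.hom (o := V) (𝟙 V.left) (Category.id_comp _)) := by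
  have e : pb F V.hom (o := V) (𝟙 V.left) (Category.id_comp _) = ru V.hom F (δdiag V) := funext fun s => by rw [pb]; rfl
  rw [e]
  exact bijective_ru_etale F V

/-- transport followed by restriction to the source -/
theorem toSec_tr {T T' : Scheme.{u}} (g : T' ⟶ T) (u : T ⟶ X) (u' : T' ⟶ X) (hu : g ≫ u = u') {V : T.Etale}
    {V' : T'.Etale} (δ : V' ⟶ (EtCoh.bc g).obj V) (v : V.left ⟶ X) (hv : V.hom ≫ u = v) (v' : V'.left ⟶ X)
    (hv' : V'.hom ≫ u' = v') (x : EtDesc.sect ((EtDesc.pullSh u).obj F) V) :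
    toSec F u' V' v' hv' (tr F g u u' hu δ x) =
      res F (δ.left ≫ pullback.fst V.hom g) v v'
        (by rw [← hv, ← hv', ← hu, ← Category.assoc, bc_w g δ, Category.assoc]) (toSec F u V v hv x) := by
  rw [res_toSec F (V'.hom ≫ g) u v' (by rw [Category.assoc, hu, hv']) V (δ.left ≫ pullback.fst V.hom g) (bc_w g δ) v hv x]
  refine tr_tr F g V'.hom u u' hu v' hv' δ (δdiag V') (V'.hom ≫ g) rfl _ ?_ x
  rw [δdiag, mkδ_fst, mkδ_fst]
  exact Category.id_comp _

theorem conj_iff {T : Scheme.{u}} {A B C : EtDesc.Sh T} (e₁ : A ≅ C) (e₂ : B ≅ C) (V : T.Etale)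
    (x : EtDesc.sect A V) (y : EtDesc.sect B V) :
    appH (e₁.hom ≫ e₂.inv) V x = y ↔ appH e₁.hom V x = appH e₂.hom V y := by
  rw [appH_comp]
  constructor
  · intro h
    rw [← h]
    exact (appH_hom_inv e₂.symm V _).symm
  · intro h
    rw [h]
    exact appH_hom_inv e₂ V y

theorem canIso_hom {X' : Scheme.{u}} (f : X' ⟶ X) : (EtDesc.canIso f F).hom =
    (EtDesc.pullVia (pullback.fst f f) f (pullback.fst f f ≫ f) rfl F).hom ≫
      (EtDesc.pullVia (pullback.snd f f) f (pullback.fst f f ≫ f) pullback.condition.symm F).inv := by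
  rw [EtDesc.canIso, Iso.trans_hom, Iso.symm_hom]

section Can

variable {X' : Scheme.{u}} (f : X' ⟶ X)

theorem canIso_ru_iff {V : (EtDesc.X2 f).Etale} {o o' : X'.Etale}
    (δ₁ : V ⟶ (EtCoh.bc (pullback.fst f f)).obj o) (δ₂ : V ⟶ (EtCoh.bc (pullback.snd f f)).obj o')
    (x : EtDesc.sect ((EtDesc.pullSh f).obj F) o) (x' : EtDesc.sect ((EtDesc.pullSh f).obj F) o') :
    appH (EtDesc.canIso f F).hom V (ru (pullback.fst f f) ((EtDesc.pullSh f).obj F) δ₁ x) =
        ru (pullback.snd f f) ((EtDesc.pullSh f).obj F) δ₂ x' ↔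
      tr F (pullback.fst f f) f (pullback.fst f f ≫ f) rfl δ₁ x =
        tr F (pullback.snd f f) f (pullback.fst f f ≫ f) pullback.condition.symm δ₂ x' := by
  rw [canIso_hom, tr, tr]
  exact conj_iff _ _ V _ _

theorem canIso_secPull_iff (s : EtDesc.sect ((EtDesc.pullSh f).obj F) (EtCoh.top X')) :
    appH (EtDesc.canIso f F).hom (EtCoh.top (EtDesc.X2 f))
        (EtDesc.secPull (pullback.fst f f) ((EtDesc.pullSh f).obj F) s) =
        EtDesc.secPull (pullback.snd f f) ((EtDesc.pullSh f).obj F) s ↔
      res F (pullback.fst f f) f (pullback.fst f f ≫ f) rfl s =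
        res F (pullback.snd f f) f (pullback.fst f f ≫ f) pullback.condition.symm s := by
  rw [secPull_eq, secPull_eq]
  rw [pb, pb]
  exact canIso_ru_iff F f _ _ s s

variable {f}

theorem isQuotientMap_snd (hf : EtDesc.IsUnivSubmersive f) (Y : Scheme.{u}) (t : Y ⟶ X) :
    Topology.IsQuotientMap (pullback.snd f t) := (hf Y t).2

theorem surjective_of_univSubmersive (hf : EtDesc.IsUnivSubmersive f) : Function.Surjective f := fun p => by
  obtain ⟨z, hz⟩ := (hf X (𝟙 X)).1 p
  refine ⟨pullback.fst f (𝟙 X) z, ?_⟩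
  rw [← Scheme.Hom.comp_apply, pullback.condition, Category.comp_id]
  exact hz

/-- universally submersive morphisms are stable under base change -/
theorem isQuotientMap_snd_snd (hf : EtDesc.IsUnivSubmersive f) {V : Scheme.{u}} (j : V ⟶ X) (Y : Scheme.{u})
    (t : Y ⟶ V) : Topology.IsQuotientMap (pullback.snd (pullback.snd f j) t) := by
  have h := (IsPullback.of_hasPullback (pullback.snd f j) t).paste_horiz (IsPullback.of_hasPullback f j)
  rw [← h.isoPullback_hom_snd]
  exact (isQuotientMap_snd hf Y (t ≫ j)).comp h.isoPullback.hom.homeomorph.isQuotientMap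

/-- universally submersive morphisms are stable under base change, in any cartesian square -/
theorem isQuotientMap_of_isPullback (hf : EtDesc.IsUnivSubmersive f) {W V : Scheme.{u}} {t : W ⟶ X'} {g : W ⟶ V}
    {j : V ⟶ X} (hP : IsPullback t g f j) (Y : Scheme.{u}) (r : Y ⟶ V) :
    Topology.IsQuotientMap (pullback.snd g r) := by
  have h := (IsPullback.of_hasPullback g r).paste_horiz hP
  rw [← h.isoPullback_hom_snd]
  exact (isQuotientMap_snd hf Y (r ≫ j)).comp h.isoPullback.hom.homeomorph.isQuotientMap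

theorem injective_secPull (hf : EtDesc.IsUnivSubmersive f) : Function.Injective (EtDesc.secPull f F) := by
  intro s s' h
  rw [secPull_eq, secPull_eq] at h
  refine eq_of_eqLoc fun p => ?_
  obtain ⟨q, rfl⟩ := surjective_of_univSubmersive hf p
  refine (mem_eqLoc_pb F f (o := EtCoh.top X) f (Category.comp_id f) s s' q).mp ?_
  rw [h, eqLoc_self]
  trivial

theorem range_secPull (hf : EtDesc.IsUnivSubmersive f) : Set.range (EtDesc.secPull f F) =
    {s' | appH (EtDesc.canIso f F).hom (EtCoh.top (EtDesc.X2 f))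
        (EtDesc.secPull (pullback.fst f f) ((EtDesc.pullSh f).obj F) s') =
        EtDesc.secPull (pullback.snd f f) ((EtDesc.pullSh f).obj F) s'} := by
  ext x
  rw [Set.mem_ofPred_eq, canIso_secPull_iff F f x]
  constructor
  · rintro ⟨s, rfl⟩
    rw [secPull_eq, res_pb, res_pb]
    exact pb_congr F _ (o := EtCoh.top X) pullback.condition _ _
  · intro hx
    obtain ⟨y, hy⟩ := exists_descend F f (𝟙 X) f (Category.comp_id f) (fun Y t => isQuotientMap_snd hf Y t) x
      fun Z a b v ha hb e => by
        let c : Z ⟶ EtDesc.X2 f := pullback.lift a b e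
        have hc : c ≫ pullback.fst f f ≫ f = v := by rw [← Category.assoc, pullback.lift_fst, ha]
        have h1 := congrArg (res F c _ v hc) hx
        rw [res_res F (pullback.fst f f) c a (pullback.lift_fst _ _ _),
          res_res F (pullback.snd f f) c b (pullback.lift_snd _ _ _)] at h1
        exact h1
    obtain ⟨s, hs⟩ := (bijective_pb F (EtCoh.top X)).2 y
    refine ⟨s, ?_⟩
    rw [← hy, secPull_eq, ← hs]
    refine Eq.trans ?_ (res_pb F f (𝟙 X) f (Category.comp_id f) (o := EtCoh.top X) (𝟙 X) (Category.id_comp _) s).symm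
    exact pb_congr F _ (o := EtCoh.top X) (Category.comp_id f).symm _ _

end Can

section Morphisms

variable {X' : Scheme.{u}} {f : X' ⟶ X} (hf : EtDesc.IsUnivSubmersive f) (G : EtDesc.Sh X)

include hf in
theorem injective_unitSect (U : X.Etale) : Function.Injective (unitSect f G U) := by
  intro s s' h
  refine eq_of_eqLoc fun p => ?_
  obtain ⟨q, hq⟩ := (isQuotientMap_of_isPullback hf (IsPullback.of_hasPullback U.hom f).flip U.left (𝟙 _)).surjective p
  let r := pullback.fst (pullback.fst U.hom f) (𝟙 U.left) q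
  have hr : pullback.fst U.hom f r = p := by
    rw [← Scheme.Hom.comp_apply, pullback.condition, Category.comp_id]
    exact hq
  rw [← hr]
  refine (mem_eqLoc_unit f G U s s' r).mp ?_
  rw [h, eqLoc_self]
  trivial

theorem appH_canIso_unit (U : X.Etale) (s : EtDesc.sect F U) {T : (EtDesc.X2 f).Etale}
    (δ₁ : T ⟶ (EtCoh.bc (pullback.fst f f)).obj ((EtCoh.bc f).obj U))
    (δ₂ : T ⟶ (EtCoh.bc (pullback.snd f f)).obj ((EtCoh.bc f).obj U))
    (ε : T ⟶ (EtCoh.bc (pullback.fst f f ≫ f)).obj U)
    (h₁ : (δ₁.left ≫ pullback.fst ((EtCoh.bc f).obj U).hom (pullback.fst f f)) ≫ pullback.fst U.hom f =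
      ε.left ≫ pullback.fst U.hom (pullback.fst f f ≫ f))
    (h₂ : (δ₂.left ≫ pullback.fst ((EtCoh.bc f).obj U).hom (pullback.snd f f)) ≫ pullback.fst U.hom f =
      ε.left ≫ pullback.fst U.hom (pullback.fst f f ≫ f)) :
    appH (EtDesc.canIso f F).hom T (ru (pullback.fst f f) ((EtDesc.pullSh f).obj F) δ₁ (unitSect f F U s)) =
      ru (pullback.snd f f) ((EtDesc.pullSh f).obj F) δ₂ (unitSect f F U s) := by
  refine (canIso_ru_iff F f δ₁ δ₂ _ _).mpr ?_
  rw [show unitSect f F U s = ru f F (𝟙 _) s by simp [ru]]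
  rw [tr_ru F _ f _ rfl δ₁ (𝟙 _) ε ((congrArg (fun z => _ ≫ z) (Category.id_comp _)).trans h₁) s,
    tr_ru F _ f _ pullback.condition.symm δ₂ (𝟙 _) ε ((congrArg (fun z => _ ≫ z) (Category.id_comp _)).trans h₂) s]

include hf in
/-- compatible morphisms descend on sections -/
theorem exists_unit_preimage (a : (EtDesc.pullSh f).obj F ⟶ (EtDesc.pullSh f).obj G)
    (ha : (EtDesc.canIso f F).hom ≫ (EtDesc.pullSh (pullback.snd f f)).map a =
      (EtDesc.pullSh (pullback.fst f f)).map a ≫ (EtDesc.canIso f G).hom)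
    (U : X.Etale) (s : EtDesc.sect F U) :
    ∃ y : EtDesc.sect G U, unitSect f G U y = appH a ((EtCoh.bc f).obj U) (unitSect f F U s) := by
  let V := (EtCoh.bc f).obj U
  let k := pullback.fst f f ≫ f
  let T : (EtDesc.X2 f).Etale := (EtCoh.bc k).obj U
  let m₁ : T.left ⟶ V.left := pullback.lift (pullback.fst U.hom k) (T.hom ≫ pullback.fst f f) (by
    rw [Category.assoc]; exact pullback.condition)
  let m₂ : T.left ⟶ V.left := pullback.lift (pullback.fst U.hom k) (T.hom ≫ pullback.snd f f) (by
    rw [Category.assoc, ← pullback.condition (f := f) (g := f)]; exact pullback.condition)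
  let δ₁ : T ⟶ (EtCoh.bc (pullback.fst f f)).obj V := mkδ _ m₁ (pullback.lift_snd _ _ _)
  let δ₂ : T ⟶ (EtCoh.bc (pullback.snd f f)).obj V := mkδ _ m₂ (pullback.lift_snd _ _ _)
  have h₁ : δ₁.left ≫ pullback.fst V.hom (pullback.fst f f) = m₁ := mkδ_fst _ _ _
  have h₂ : δ₂.left ≫ pullback.fst V.hom (pullback.snd f f) = m₂ := mkδ_fst _ _ _
  let x := appH a V (unitSect f F U s)
  have hcan : appH (EtDesc.canIso f G).hom T (ru (pullback.fst f f) ((EtDesc.pullSh f).obj G) δ₁ x) =
      ru (pullback.snd f f) ((EtDesc.pullSh f).obj G) δ₂ x := by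
    rw [← appH_ru, ← appH_comp, ← ha, appH_comp, appH_canIso_unit F U s δ₁ δ₂ (𝟙 T)
      (((congrArg (fun z => z ≫ _) h₁).trans (pullback.lift_fst _ _ _)).trans (Category.id_comp _).symm)
      (((congrArg (fun z => z ≫ _) h₂).trans (pullback.lift_fst _ _ _)).trans (Category.id_comp _).symm), appH_ru]
  have key := congrArg (toSec G k T (T.hom ≫ k) rfl) ((canIso_ru_iff G f δ₁ δ₂ x x).mp hcan)
  rw [toSec_tr G _ f k rfl δ₁ (V.hom ≫ f) rfl (T.hom ≫ k) rfl x,
    toSec_tr G _ f k pullback.condition.symm δ₂ (V.hom ≫ f) rfl (T.hom ≫ k) rfl x] at key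
  obtain ⟨y, hy⟩ := exists_descend G (pullback.fst U.hom f) U.hom (V.hom ≫ f) pullback.condition
    (isQuotientMap_of_isPullback hf (IsPullback.of_hasPullback U.hom f).flip) (toSec G f V (V.hom ≫ f) rfl x)
    fun Z p q v hp hq e => by
      have e' : (p ≫ V.hom) ≫ f = (q ≫ V.hom) ≫ f :=
        (Category.assoc _ _ _).trans (hp.trans (hq.symm.trans (Category.assoc _ _ _).symm))
      let c : Z ⟶ T.left := pullback.lift (p ≫ pullback.fst U.hom f) (pullback.lift (p ≫ V.hom) (q ≫ V.hom) e') (by
        rw [← Category.assoc (pullback.lift (p ≫ V.hom) (q ≫ V.hom) e'), pullback.lift_fst, Category.assoc,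
          pullback.condition]
        exact (Category.assoc _ _ _).symm)
      have hc₁ : c ≫ δ₁.left ≫ pullback.fst V.hom (pullback.fst f f) = p := by
        rw [h₁]
        apply pullback.hom_ext
        · rw [Category.assoc, pullback.lift_fst, pullback.lift_fst]
        · rw [Category.assoc, pullback.lift_snd, ← Category.assoc]
          refine (congrArg (· ≫ pullback.fst f f) (pullback.lift_snd _ _ _)).trans ?_
          exact pullback.lift_fst _ _ _
      have hc₂ : c ≫ δ₂.left ≫ pullback.fst V.hom (pullback.snd f f) = q := by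
        rw [h₂]
        apply pullback.hom_ext
        · rw [Category.assoc, pullback.lift_fst, pullback.lift_fst]
          exact e
        · rw [Category.assoc, pullback.lift_snd, ← Category.assoc]
          refine (congrArg (· ≫ pullback.snd f f) (pullback.lift_snd _ _ _)).trans ?_
          exact pullback.lift_snd _ _ _
      have hv : c ≫ T.hom ≫ k = v := by
        rw [← hp, ← Category.assoc, show c ≫ T.hom = _ from pullback.lift_snd _ _ _, ← Category.assoc, pullback.lift_fst,
          Category.assoc]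
      have h3 := congrArg (res G c _ v hv) key
      rw [res_res G _ c p hc₁, res_res G _ c q hc₂] at h3
      exact h3
  obtain ⟨y', hy'⟩ := (bijective_pb G U).2 y
  refine ⟨y', (bijective_toSec G f V (V.hom ≫ f) rfl).1 (Eq.trans ?_ hy)⟩
  rw [← hy', res_pb G, show unitSect f G U y' = ru f G (𝟙 _) y' by simp [ru], toSec_ru G]
  exact pb_congr G _ (o := U) ((Category.id_comp _).trans (Category.comp_id _).symm) _ _

include hf in
/-- **descent of morphisms along universally submersive morphisms** -/
theorem existsUnique_hom (a : (EtDesc.pullSh f).obj F ⟶ (EtDesc.pullSh f).obj G)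
    (ha : (EtDesc.canIso f F).hom ≫ (EtDesc.pullSh (pullback.snd f f)).map a =
      (EtDesc.pullSh (pullback.fst f f)).map a ≫ (EtDesc.canIso f G).hom) :
    ∃! b : F ⟶ G, (EtDesc.pullSh f).map b = a := by
  choose y hy using exists_unit_preimage F hf G a ha
  let b : F ⟶ G := ⟨{
    app := fun o => TypeCat.ofHom fun s => y o.unop s
    naturality := fun o o' e => by
      ext s
      apply injective_unitSect hf G o'.unop
      change unitSect f G o'.unop (y o'.unop (F.obj.map e.unop.op s)) =
        unitSect f G o'.unop (G.obj.map e.unop.op (y o.unop s))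
      rw [hy, unitSect_map, unitSect_map, hy, map_appH] }⟩
  have hmap : ∀ (b' : F ⟶ G) (U : X.Etale) (s : EtDesc.sect F U),
      appH ((EtDesc.pullSh f).map b') ((EtCoh.bc f).obj U) (unitSect f F U s) = unitSect f G U (appH b' U s) := by
    intro b' U s
    have := appH_ru f b' (𝟙 ((EtCoh.bc f).obj U)) s
    simpa [ru] using this
  refine ⟨b, hom_ext f fun o s => ?_, fun b' hb' => ?_⟩
  · rw [← appH_def, ← appH_def, hmap b o s]
    exact hy o s
  · refine ObjectProperty.hom_ext _ (NatTrans.ext (funext fun o => ?_))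
    ext s
    apply injective_unitSect hf G o.unop
    refine Eq.trans ?_ (hy o.unop s).symm
    rw [← hb']
    exact (hmap b' o.unop s).symm

end Morphisms

end Groth.Agent.EtShDesc
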