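import Groth.Agent.EtShDesc.BC
import Groth.Agent.EtShDesc.Morph

/-!
The base change map of sheaves of sets for an arbitrary square on sections, and its étale locality.
-/

set_option autoImplicit false
set_option backward.isDefEq.respectTransparency false
set_option backward.isDefEq.respectTransparency.types false
set_option maxHeartbeats 1000000
set_option linter.style.haveILetI false
set_option linter.unusedSectionVars false

universe u

open CategoryTheory CategoryTheory.Limits AlgebraicGeometry Opposite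

noncomputable section

namespace Groth.Agent.EtShDesc

open Groth.Agent.EtShLib Groth.Agent.EtShSep

variable {X S Y T : Scheme.{u}} (g : T ⟶ S) (f : X ⟶ S) (h : Y ⟶ X) (e : Y ⟶ T) (w : e ≫ g = h ≫ f) (F : EtDesc.Sh T)

/-- the map of fibre products over a map of étale schemes -/
def sqMap {W : X.Etale} {U : S.Etale} (m : W.left ⟶ U.left) (hm : m ≫ U.hom = W.hom ≫ f) :
    ((EtCoh.bc h).obj W).left ⟶ ((EtCoh.bc g).obj U).left :=
  pullback.lift (pullback.fst W.hom h ≫ m) (pullback.snd W.hom h ≫ e) (by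
    rw [Category.assoc, hm, pullback.condition_assoc, Category.assoc, w])

theorem sqMap_fst {W : X.Etale} {U : S.Etale} (m : W.left ⟶ U.left) (hm : m ≫ U.hom = W.hom ≫ f) :
    sqMap g f h e w m hm ≫ pullback.fst U.hom g = pullback.fst W.hom h ≫ m := pullback.lift_fst _ _ _

theorem sqMap_snd {W : X.Etale} {U : S.Etale} (m : W.left ⟶ U.left) (hm : m ≫ U.hom = W.hom ≫ f) :
    sqMap g f h e w m hm ≫ ((EtCoh.bc g).obj U).hom = pullback.snd W.hom h ≫ e := pullback.lift_snd _ _ _

theorem sqMap_snd' {W : X.Etale} {U : S.Etale} (m : W.left ⟶ U.left) (hm : m ≫ U.hom = W.hom ≫ f) :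
    sqMap g f h e w m hm ≫ pullback.snd U.hom g = pullback.snd W.hom h ≫ e := pullback.lift_snd _ _ _

theorem toSec_bc0_sq {W : X.Etale} {U : S.Etale} (m : W.left ⟶ U.left) (hm : m ≫ U.hom = W.hom ≫ f)
    (s : EtDesc.sect F ((EtCoh.bc g).obj U)) :
    toSec F e ((EtCoh.bc h).obj W) (pullback.snd W.hom h ≫ e) rfl
        (appH (EtBC.baseChange0Sh g f h e w F) W (ru f ((EtDesc.pushSh g).obj F) (mkδ f m hm) s)) =
      pb F (pullback.snd W.hom h ≫ e) (sqMap g f h e w m hm) (sqMap_snd g f h e w m hm) s := by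
  have hbc : appH (EtBC.baseChange0Sh g f h e w F) W (ru f ((EtDesc.pushSh g).obj F) (mkδ f m hm) s) =
      ru e F ((EtCoh.bc h).map (mkδ f m hm) ≫ Groth.Agent.EtIntegral.bcSwap g f h e w U) s := by
    rw [ru, ← map_appH, appH_def, baseChange0Sh_unit, ← map_ru]
    rfl
  rw [hbc, toSec_ru]
  refine pb_congr F _ ?_ _ s
  let δ := (EtCoh.bc h).map (mkδ f m hm) ≫ Groth.Agent.EtIntegral.bcSwap g f h e w U
  apply pullback.hom_ext
  · refine (Category.assoc δ.left _ _).trans (Eq.trans ?_ (sqMap_fst g f h e w m hm).symm)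
    refine (Category.assoc ((EtCoh.bc h).map (mkδ f m hm)).left _ _).trans ?_
    rw [show pullback.fst ((EtCoh.bc g).obj U).hom e = pullback.fst (pullback.snd U.hom g) e from rfl,
      Groth.Agent.EtIntegral.bcSwap_fst]
    refine (Category.assoc _ _ _).symm.trans ((congrArg (· ≫ pullback.fst U.hom f) (bc_map_fst h (mkδ f m hm))).trans ?_)
    exact (Category.assoc _ _ _).trans (congrArg (pullback.fst W.hom h ≫ ·) (mkδ_fst f m hm))
  · exact (bc_w e δ).trans (sqMap_snd g f h e w m hm).symm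

/-- local surjectivity of base change on sections -/
def BCSurj : Prop :=
  ∀ (W : X.Etale) (t : Sec F (pullback.snd W.hom h ≫ e)) (a : W.left),
    ∃ (W₁ : X.Etale) (c : W₁ ⟶ W) (U : S.Etale) (m : W₁.left ⟶ U.left) (hm : m ≫ U.hom = W₁.hom ≫ f)
      (s : EtDesc.sect F ((EtCoh.bc g).obj U)), a ∈ Set.range c.left ∧
      res F ((EtCoh.bc h).map c).left _ (pullback.snd W₁.hom h ≫ e)
          (by rw [← Category.assoc]; exact congrArg (· ≫ e) (bc_map_snd h c)) t =
        pb F (pullback.snd W₁.hom h ≫ e) (sqMap g f h e w m hm) (sqMap_snd g f h e w m hm) s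

/-- local injectivity of base change on sections -/
def BCInj : Prop :=
  ∀ (W : X.Etale) (U : S.Etale) (m : W.left ⟶ U.left) (hm : m ≫ U.hom = W.hom ≫ f)
    (s s' : EtDesc.sect F ((EtCoh.bc g).obj U)),
    pb F (pullback.snd W.hom h ≫ e) (sqMap g f h e w m hm) (sqMap_snd g f h e w m hm) s =
      pb F (pullback.snd W.hom h ≫ e) (sqMap g f h e w m hm) (sqMap_snd g f h e w m hm) s' →
    ∀ a : W.left, ∃ (U₁ : S.Etale) (c : U₁ ⟶ U), m a ∈ Set.range c.left ∧
      F.obj.map ((EtCoh.bc g).map c).op s = F.obj.map ((EtCoh.bc g).map c).op s'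

theorem bcSurj_of_isIso [IsIso (EtBC.baseChange0Sh g f h e w F)] : BCSurj g f h e w F := by
  intro W t a
  obtain ⟨y₀, rfl⟩ := (bijective_toSec F e ((EtCoh.bc h).obj W) (pullback.snd W.hom h ≫ e) rfl).2 t
  obtain ⟨y, rfl⟩ := (bijective_appH (EtBC.baseChange0Sh g f h e w F) W).2 y₀
  obtain ⟨W₁, c, U, ε, s, ha, hy⟩ := exists_rep ((EtDesc.pushSh g).obj F) f y a
  have hε : ε = mkδ f (ε.left ≫ pullback.fst U.hom f) (bc_w f ε) := bc_ext f (mkδ_fst _ _ _).symm
  refine ⟨W₁, c, U, ε.left ≫ pullback.fst U.hom f, bc_w f ε, s, ha, ?_⟩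
  rw [← toSec_map F e ((EtCoh.bc h).map c) (pullback.snd W.hom h ≫ e) rfl]
  have e' := map_appH (EtBC.baseChange0Sh g f h e w F) c y
  rw [hy, hε] at e'
  refine (congrArg (toSec F e ((EtCoh.bc h).obj W₁) (pullback.snd W₁.hom h ≫ e) rfl) e').trans ?_
  exact toSec_bc0_sq g f h e w F _ _ s

theorem bcInj_of_isIso [IsIso (EtBC.baseChange0Sh g f h e w F)] : BCInj g f h e w F := by
  intro W U m hm s s' hss a
  rw [← toSec_bc0_sq, ← toSec_bc0_sq] at hss
  have h1 := (bijective_appH (EtBC.baseChange0Sh g f h e w F) W).1 ((bijective_toSec F _ _ _ rfl).1 hss)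
  have h2 := (mem_eqLoc_ru f ((EtDesc.pushSh g).obj F) (T := W) (mkδ f m hm) s s' a).mp (by
    rw [h1, eqLoc_self]; trivial)
  rw [fst_apply] at h2
  exact h2

theorem isIso_of_bcSurj_bcInj (hs : BCSurj g f h e w F) (hi : BCInj g f h e w F) :
    IsIso (EtBC.baseChange0Sh g f h e w F) := by
  let bc0 := EtBC.baseChange0Sh g f h e w F
  have hinj : ∀ V, Function.Injective (appH bc0 V) := by
    intro V x y hxy
    refine eq_of_eqLoc fun p => ?_
    obtain ⟨W, b, o, ε, σ, ⟨v, hv⟩, hx⟩ := exists_rep ((EtDesc.pushSh g).obj F) f x p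
    obtain ⟨W', b', o', ε', σ', ⟨v', hv'⟩, hy⟩ := exists_rep ((EtDesc.pushSh g).obj F) f
      (((EtDesc.pullSh f).obj ((EtDesc.pushSh g).obj F)).obj.map b.op y) v
    rw [map_map] at hy
    haveI := o.prop
    haveI := o'.prop
    let P : S.Etale := Scheme.Etale.mk (pullback.fst o.hom o'.hom ≫ o.hom)
    let p₁ : P ⟶ o := MorphismProperty.Over.homMk (pullback.fst o.hom o'.hom) rfl
    let p₂ : P ⟶ o' := MorphismProperty.Over.homMk (pullback.snd o.hom o'.hom) pullback.condition.symm
    have hm₁ := bc_w f (b' ≫ ε)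
    have hm₂ := bc_w f ε'
    let m : W'.left ⟶ P.left := pullback.lift _ _ (hm₁.trans hm₂.symm)
    have hm : m ≫ P.hom = W'.hom ≫ f := by
      show _ ≫ pullback.fst o.hom o'.hom ≫ o.hom = _
      rw [← Category.assoc, pullback.lift_fst]
      exact hm₁
    have e₁ : b' ≫ ε = mkδ f m hm ≫ (EtCoh.bc f).map p₁ := bc_ext f (by
      rw [comp_map_fst, mkδ_fst]
      exact (pullback.lift_fst _ _ _).symm)
    have e₂ : ε' = mkδ f m hm ≫ (EtCoh.bc f).map p₂ := bc_ext f (by
      rw [comp_map_fst, mkδ_fst]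
      exact (pullback.lift_snd _ _ _).symm)
    have hx' : ((EtDesc.pullSh f).obj ((EtDesc.pushSh g).obj F)).obj.map (b' ≫ b).op x =
        ru f _ (mkδ f m hm) (((EtDesc.pushSh g).obj F).obj.map p₁.op σ) := by
      rw [← map_map, hx, map_ru, e₁, ru_res]
    rw [e₂, ← ru_res] at hy
    refine ⟨_, b' ≫ b, ⟨v', (Scheme.Hom.comp_apply b'.left b.left v').trans ((congrArg b.left hv').trans hv)⟩, ?_⟩
    rw [hx', hy]
    refine eq_of_eqLoc fun z => (mem_eqLoc_ru f _ (mkδ f m hm) _ _ z).mpr ?_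
    have key := congrArg (fun u => ((EtDesc.pushSh h).obj ((EtDesc.pullSh e).obj F)).obj.map (b' ≫ b).op u) hxy
    rw [map_appH, map_appH, hx', hy] at key
    have key' := congrArg (toSec F e ((EtCoh.bc h).obj W') (pullback.snd W'.hom h ≫ e) rfl) key
    rw [toSec_bc0_sq, toSec_bc0_sq] at key'
    rw [fst_apply]
    exact hi W' P m hm _ _ key' z
  haveI h1 : Sheaf.IsLocallyInjective bc0 := Presheaf.isLocallyInjective_of_injective _ _ fun V => hinj V.unop
  haveI h2 : Sheaf.IsLocallySurjective bc0 := ⟨fun {W} y => by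
    choose W₁ c U m hm s ha hy using hs W (toSec F e ((EtCoh.bc h).obj W) (pullback.snd W.hom h ≫ e) rfl y)
    have hcov : Sieve.ofArrows W₁ c ∈ X.smallEtaleTopology W := by
      rw [Scheme.ofArrows_mem_smallEtaleTopology_iff]
      exact Set.eq_univ_of_forall fun v => Set.mem_iUnion.mpr ⟨v, ha v⟩
    refine X.smallEtaleTopology.superset_covering ?_ hcov
    rintro Z k ⟨_, d, _, ⟨v⟩, rfl⟩
    refine (Presheaf.imageSieve _ _).downward_closed ?_ d
    refine ⟨ru f ((EtDesc.pushSh g).obj F) (mkδ f (m v) (hm v)) (s v), ?_⟩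
    apply (bijective_toSec F e ((EtCoh.bc h).obj (W₁ v)) (pullback.snd (W₁ v).hom h ≫ e) rfl).1
    refine (toSec_bc0_sq g f h e w F (m v) (hm v) (s v)).trans ((hy v).symm.trans ?_)
    exact (toSec_map F e ((EtCoh.bc h).map (c v)) _ rfl _ rfl y).symm⟩
  exact (Sheaf.isLocallyBijective_iff_isIso _).mp ⟨h1, h2⟩

section Local

variable {ι : Type u} (U : ι → X.Etale) (hU : ∀ x : X, ∃ i, x ∈ Set.range (U i).hom) (V : ι → S.Etale)
  (a : ∀ i, (U i).left ⟶ (V i).left) (ha : ∀ i, a i ≫ (V i).hom = (U i).hom ≫ f)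
  (Ti Yi : ι → Scheme.{u}) (gi : ∀ i, Ti i ⟶ (V i).left) (ti : ∀ i, Ti i ⟶ T) (cT : ∀ i, IsPullback (ti i) (gi i) g (V i).hom)
  (hi : ∀ i, Yi i ⟶ (U i).left) (ei : ∀ i, Yi i ⟶ Ti i) (cY : ∀ i, IsPullback (ei i) (hi i) (gi i) (a i))
  (c : IsPullback e h g f)

include hU ha cT cY c in
/-- **base change is étale local** -/
theorem isIso_baseChange0Sh_of_local
    (hloc : ∀ i, IsIso (EtBC.baseChange0Sh (gi i) (a i) (hi i) (ei i) (cY i).w ((EtDesc.pullSh (ti i)).obj F))) :
    IsIso (EtBC.baseChange0Sh g f h e c.w F) := by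
  -- from the small fibre products to the big one
  have hji : ∀ i, ((ei i ≫ ti i) ≫ g : Yi i ⟶ S) = (hi i ≫ (U i).hom) ≫ f := fun i => by
    rw [Category.assoc, (cT i).w, ← Category.assoc, (cY i).w, Category.assoc, ha, Category.assoc]
  let ji : ∀ i, Yi i ⟶ Y := fun i => c.lift (ei i ≫ ti i) (hi i ≫ (U i).hom) (hji i)
  have hje : ∀ i, ji i ≫ e = ei i ≫ ti i := fun i => c.lift_fst _ _ _
  have hjh : ∀ i, ji i ≫ h = hi i ≫ (U i).hom := fun i => c.lift_snd _ _ _
  refine isIso_of_bcSurj_bcInj g f h e c.w F ?_ ?_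
  · intro W t x
    obtain ⟨i, u, hu⟩ := hU (W.hom x)
    haveI := hloc i
    haveI := W.prop
    let W' : (U i).left.Etale := Scheme.Etale.mk (pullback.snd W.hom (U i).hom)
    obtain ⟨x', hx', -⟩ := Scheme.Pullback.exists_preimage_pullback (f := W.hom) (g := (U i).hom) x u hu.symm
    let κ : ((EtCoh.bc (hi i)).obj W').left ⟶ ((EtCoh.bc h).obj W).left :=
      pullback.lift (pullback.fst W'.hom (hi i) ≫ pullback.fst W.hom (U i).hom) (pullback.snd W'.hom (hi i) ≫ ji i) (by
        rw [Category.assoc, Category.assoc, pullback.condition, hjh, ← pullback.condition_assoc]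
        rfl)
    have hκ : κ ≫ pullback.snd W.hom h ≫ e = (pullback.snd W'.hom (hi i) ≫ ei i) ≫ ti i := by
      rw [← Category.assoc, pullback.lift_snd, Category.assoc, hje, Category.assoc]
    obtain ⟨t₀, ht₀⟩ := (bijective_conv F (ti i) (pullback.snd W'.hom (hi i) ≫ ei i) _ rfl).2 (res F κ _ _ hκ t)
    obtain ⟨W₁, k, U', m, hm, s₀, hx₁, hs⟩ := bcSurj_of_isIso (gi i) (a i) (hi i) (ei i) (cY i).w
      ((EtDesc.pullSh (ti i)).obj F) W' t₀ x'
    haveI := W₁.prop
    haveI := (U i).prop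
    haveI := U'.prop
    haveI := (V i).prop
    let W₂ : X.Etale := Scheme.Etale.mk (W₁.hom ≫ (U i).hom)
    let US : S.Etale := Scheme.Etale.mk (U'.hom ≫ (V i).hom)
    let k₂ : W₂ ⟶ W := MorphismProperty.Over.homMk (k.left ≫ pullback.fst W.hom (U i).hom) (by
      show (k.left ≫ _) ≫ W.hom = W₁.hom ≫ (U i).hom
      rw [Category.assoc, pullback.condition, ← Category.assoc]
      exact congrArg (· ≫ (U i).hom) (MorphismProperty.Over.w k))
    have hm₂ : m ≫ US.hom = W₂.hom ≫ f := by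
      show m ≫ U'.hom ≫ (V i).hom = (W₁.hom ≫ (U i).hom) ≫ f
      rw [reassoc_of% hm, Category.assoc, ha]
    let ψ : ((EtCoh.bc g).obj US).left ⟶ ((EtCoh.bc (gi i)).obj U').left :=
      pullback.lift (pullback.fst US.hom g)
        ((cT i).lift (pullback.snd US.hom g) (pullback.fst US.hom g ≫ U'.hom) (by
          rw [← pullback.condition, Category.assoc]
          rfl))
        ((cT i).lift_snd _ _ _).symm
    have hψ : ψ ≫ ((EtCoh.bc (gi i)).obj U').hom ≫ ti i = ((EtCoh.bc g).obj US).hom := by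
      rw [← Category.assoc, show ψ ≫ ((EtCoh.bc (gi i)).obj U').hom = _ from pullback.lift_snd _ _ _]
      exact (cT i).lift_fst _ _ _
    obtain ⟨s, hs'⟩ := (bijective_pb F ((EtCoh.bc g).obj US)).2
      (res F ψ _ _ hψ (toSec F (ti i) ((EtCoh.bc (gi i)).obj U') _ rfl s₀))
    refine ⟨W₂, k₂, US, m, hm₂, s, ?_, ?_⟩
    · obtain ⟨z, hz⟩ := hx₁
      exact ⟨z, (Scheme.Hom.comp_apply _ _ _).trans ((congrArg _ hz).trans hx')⟩
    let tY : ((EtCoh.bc h).obj W₂).left ⟶ Ti i :=
      (cT i).lift (pullback.snd W₂.hom h ≫ e) (pullback.fst W₂.hom h ≫ W₁.hom ≫ a i) (by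
        simp only [Category.assoc]
        rw [ha, c.w, ← pullback.condition_assoc]
        exact congrArg (pullback.fst W₂.hom h ≫ ·) (Category.assoc _ _ _))
    let yY : ((EtCoh.bc h).obj W₂).left ⟶ Yi i := (cY i).lift tY (pullback.fst W₂.hom h ≫ W₁.hom) (by
      rw [(cT i).lift_snd, Category.assoc])
    let ζ : ((EtCoh.bc h).obj W₂).left ⟶ ((EtCoh.bc (hi i)).obj W₁).left :=
      pullback.lift (pullback.fst W₂.hom h) yY ((cY i).lift_snd _ _ _).symm
    have hy₁ : yY ≫ ji i = pullback.snd W₂.hom h := by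
      refine c.hom_ext ?_ ?_
      · rw [Category.assoc, hje, ← Category.assoc, (cY i).lift_fst, (cT i).lift_fst]
      · rw [Category.assoc, hjh, ← Category.assoc, (cY i).lift_snd, Category.assoc]
        exact pullback.condition
    have hζv : ζ ≫ (pullback.snd W₁.hom (hi i) ≫ ei i) ≫ ti i = pullback.snd W₂.hom h ≫ e := by
      rw [← Category.assoc, ← Category.assoc ζ, pullback.lift_snd, Category.assoc, ← hje, ← Category.assoc, hy₁]
    have key := congrArg (fun z => res F ζ _ _ hζv (conv F (ti i) _ _ rfl z)) hs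
    rw [conv_res F (ti i) _ _ _ _ _ rfl _ rfl, ht₀, conv_pb F (ti i) _ _ rfl _ _ _ rfl] at key
    rw [res_res F κ _ _ rfl, res_res F _ ζ _ rfl, res_res F _ ζ _ rfl] at key
    have hn : sqMap g f h e c.w (W := W₂) (U := US) m hm₂ ≫ ψ = ζ ≫ sqMap (gi i) (a i) (hi i) (ei i) (cY i).w m hm := by
      apply pullback.hom_ext
      · rw [Category.assoc, pullback.lift_fst, sqMap_fst, Category.assoc, sqMap_fst, ← Category.assoc, pullback.lift_fst]
      · rw [Category.assoc, pullback.lift_snd]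
        refine Eq.trans ?_ (Category.assoc _ _ _).symm
        refine Eq.trans ?_ (congrArg (ζ ≫ ·) (sqMap_snd (gi i) (a i) (hi i) (ei i) (cY i).w m hm)).symm
        rw [← Category.assoc ζ, pullback.lift_snd, (cY i).lift_fst]
        refine (cT i).hom_ext ?_ ?_
        · rw [Category.assoc, (cT i).lift_fst, (cT i).lift_fst]
          exact sqMap_snd' g f h e c.w (W := W₂) (U := US) m hm₂
        · rw [Category.assoc, (cT i).lift_snd, (cT i).lift_snd, ← Category.assoc]
          refine (congrArg (fun q => q ≫ U'.hom) (sqMap_fst g f h e c.w (W := W₂) (U := US) m hm₂)).trans ?_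
          rw [Category.assoc, hm]
    have hn' : ((EtCoh.bc h).map k₂).left = (ζ ≫ ((EtCoh.bc (hi i)).map k).left) ≫ κ := by
      apply pullback.hom_ext
      · rw [Category.assoc, Category.assoc, pullback.lift_fst,
          show ((EtCoh.bc h).map k₂).left ≫ pullback.fst W.hom h = _ from bc_map_fst h k₂,
          ← Category.assoc ((EtCoh.bc (hi i)).map k).left,
          show ((EtCoh.bc (hi i)).map k).left ≫ pullback.fst W'.hom (hi i) = _ from bc_map_fst (hi i) k]
        simp only [← Category.assoc]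
        rw [pullback.lift_fst]
        exact (Category.assoc _ _ _).symm
      · rw [Category.assoc, Category.assoc, pullback.lift_snd,
          show ((EtCoh.bc h).map k₂).left ≫ pullback.snd W.hom h = _ from bc_map_snd h k₂,
          ← Category.assoc ((EtCoh.bc (hi i)).map k).left,
          show ((EtCoh.bc (hi i)).map k).left ≫ pullback.snd W'.hom (hi i) = _ from bc_map_snd (hi i) k,
          ← Category.assoc, pullback.lift_snd, hy₁]
    have hn'' : ζ ≫ ((EtCoh.bc (hi i)).map k).left ≫ κ = ((EtCoh.bc h).map k₂).left :=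
      (Category.assoc _ _ _).symm.trans hn'.symm
    have step : ∀ (d : ((EtCoh.bc h).obj W₂).left ⟶ ((EtCoh.bc h).obj W).left) (_ : d = ((EtCoh.bc h).map k₂).left)
        (hd : d ≫ pullback.snd W.hom h ≫ e = pullback.snd W₂.hom h ≫ e) (hd'),
        res F d _ _ hd t = res F ((EtCoh.bc h).map k₂).left _ (pullback.snd W₂.hom h ≫ e) hd' t := by
      rintro _ rfl hd hd'
      rfl
    refine ((step _ hn'' _ _).symm.trans key).trans ?_
    refine Eq.trans ?_ ((res_pb F (sqMap g f h e c.w (W := W₂) (U := US) m hm₂) _ _ (sqMap_snd g f h e c.w (W := W₂) (U := US) m hm₂) _ (Category.id_comp _) s).trans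
      (pb_congr F _ (o := (EtCoh.bc g).obj US) (Category.comp_id _) _ _))
    rw [hs', res_res F ψ _ _ hn]
  · intro W UU m hm s s' hss x
    obtain ⟨i, u, hu⟩ := hU (W.hom x)
    haveI := hloc i
    haveI := W.prop
    haveI := UU.prop
    let W' : (U i).left.Etale := Scheme.Etale.mk (pullback.snd W.hom (U i).hom)
    let U' : (V i).left.Etale := Scheme.Etale.mk (pullback.snd UU.hom (V i).hom)
    let m' : W'.left ⟶ U'.left := pullback.lift (pullback.fst W.hom (U i).hom ≫ m) (pullback.snd W.hom (U i).hom ≫ a i)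
      (by rw [Category.assoc, hm, pullback.condition_assoc, Category.assoc, ha])
    have hm' : m' ≫ U'.hom = W'.hom ≫ a i := pullback.lift_snd _ _ _
    let θ : ((EtCoh.bc (gi i)).obj U').left ⟶ ((EtCoh.bc g).obj UU).left :=
      pullback.lift (pullback.fst U'.hom (gi i) ≫ pullback.fst UU.hom (V i).hom) (pullback.snd U'.hom (gi i) ≫ ti i) (by
        rw [Category.assoc, Category.assoc, pullback.condition, (cT i).w, ← pullback.condition_assoc]
        rfl)
    have hθ : θ ≫ ((EtCoh.bc g).obj UU).hom = ((EtCoh.bc (gi i)).obj U').hom ≫ ti i := pullback.lift_snd _ _ _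
    obtain ⟨σ, hσ⟩ := (bijective_toSec F (ti i) ((EtCoh.bc (gi i)).obj U') _ rfl).2
      (pb F _ θ hθ s)
    obtain ⟨σ', hσ'⟩ := (bijective_toSec F (ti i) ((EtCoh.bc (gi i)).obj U') _ rfl).2
      (pb F _ θ hθ s')
    let κ : ((EtCoh.bc (hi i)).obj W').left ⟶ ((EtCoh.bc h).obj W).left :=
      pullback.lift (pullback.fst W'.hom (hi i) ≫ pullback.fst W.hom (U i).hom) (pullback.snd W'.hom (hi i) ≫ ji i) (by
        rw [Category.assoc, Category.assoc, pullback.condition, hjh, ← pullback.condition_assoc]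
        rfl)
    have hκ : κ ≫ pullback.snd W.hom h ≫ e = (pullback.snd W'.hom (hi i) ≫ ei i) ≫ ti i := by
      rw [← Category.assoc, pullback.lift_snd, Category.assoc, hje, Category.assoc]
    have hn : κ ≫ sqMap g f h e c.w m hm = sqMap (gi i) (a i) (hi i) (ei i) (cY i).w m' hm' ≫ θ := by
      apply pullback.hom_ext
      · rw [Category.assoc, sqMap_fst, ← Category.assoc, pullback.lift_fst, Category.assoc, Category.assoc,
          pullback.lift_fst, ← Category.assoc (sqMap (gi i) (a i) (hi i) (ei i) (cY i).w m' hm'), sqMap_fst,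
          Category.assoc, pullback.lift_fst]
      · rw [Category.assoc, Category.assoc]
        refine (congrArg (κ ≫ ·) (sqMap_snd g f h e c.w m hm)).trans (hκ.trans ?_)
        refine Eq.trans ?_ (congrArg (_ ≫ ·) hθ).symm
        rw [← Category.assoc (sqMap (gi i) (a i) (hi i) (ei i) (cY i).w m' hm'), sqMap_snd]
    have hsame : pb ((EtDesc.pullSh (ti i)).obj F) (pullback.snd W'.hom (hi i) ≫ ei i)
          (sqMap (gi i) (a i) (hi i) (ei i) (cY i).w m' hm') (sqMap_snd _ _ _ _ _ _ _) σ =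
        pb ((EtDesc.pullSh (ti i)).obj F) (pullback.snd W'.hom (hi i) ≫ ei i)
          (sqMap (gi i) (a i) (hi i) (ei i) (cY i).w m' hm') (sqMap_snd _ _ _ _ _ _ _) σ' := by
      apply (bijective_conv F (ti i) _ _ rfl).1
      rw [conv_pb F (ti i) _ _ rfl _ _ _ rfl, conv_pb F (ti i) _ _ rfl _ _ _ rfl, hσ, hσ', res_pb, res_pb,
        pb_congr F _ hn.symm, pb_congr F _ hn.symm, ← res_pb F κ _ _ hκ _ (sqMap_snd g f h e c.w m hm) s,
        ← res_pb F κ _ _ hκ _ (sqMap_snd g f h e c.w m hm) s', hss]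
    obtain ⟨x', hx', -⟩ := Scheme.Pullback.exists_preimage_pullback (f := W.hom) (g := (U i).hom) x u hu.symm
    obtain ⟨U₁, k, ⟨z, hz⟩, hk⟩ := bcInj_of_isIso (gi i) (a i) (hi i) (ei i) (cY i).w
      ((EtDesc.pullSh (ti i)).obj F) W' U' m' hm' σ σ' hsame x'
    haveI := U₁.prop
    haveI := (V i).prop
    let U₂ : S.Etale := Scheme.Etale.mk (U₁.hom ≫ (V i).hom)
    let k₂ : U₂ ⟶ UU := MorphismProperty.Over.homMk (k.left ≫ pullback.fst UU.hom (V i).hom) (by
      show (k.left ≫ _) ≫ UU.hom = U₁.hom ≫ (V i).hom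
      rw [Category.assoc, pullback.condition, ← Category.assoc]
      exact congrArg (· ≫ (V i).hom) (MorphismProperty.Over.w k))
    refine ⟨U₂, k₂, ⟨z, ?_⟩, ?_⟩
    · refine (Scheme.Hom.comp_apply _ _ _).trans ((congrArg _ hz).trans ?_)
      rw [← Scheme.Hom.comp_apply, pullback.lift_fst]
      exact (Scheme.Hom.comp_apply _ m x').trans (congrArg m hx')
    let ψ : ((EtCoh.bc g).obj U₂).left ⟶ ((EtCoh.bc (gi i)).obj U₁).left :=
      pullback.lift (pullback.fst U₂.hom g)
        ((cT i).lift (pullback.snd U₂.hom g) (pullback.fst U₂.hom g ≫ U₁.hom) (by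
          rw [← pullback.condition, Category.assoc]
          rfl))
        ((cT i).lift_snd _ _ _).symm
    have hψ : ψ ≫ ((EtCoh.bc (gi i)).obj U₁).hom ≫ ti i = ((EtCoh.bc g).obj U₂).hom := by
      rw [← Category.assoc, show ψ ≫ ((EtCoh.bc (gi i)).obj U₁).hom = _ from pullback.lift_snd _ _ _]
      exact (cT i).lift_fst _ _ _
    have key := congrArg (fun z => res F ψ _ _ hψ (toSec F (ti i) ((EtCoh.bc (gi i)).obj U₁) _ rfl z)) hk
    rw [toSec_map F (ti i) ((EtCoh.bc (gi i)).map k) _ rfl, toSec_map F (ti i) ((EtCoh.bc (gi i)).map k) _ rfl, hσ, hσ',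
      res_pb, res_pb, res_pb, res_pb] at key
    have hmap : ψ ≫ ((EtCoh.bc (gi i)).map k).left ≫ θ = ((EtCoh.bc g).map k₂).left := by
      apply pullback.hom_ext
      · rw [Category.assoc, Category.assoc, pullback.lift_fst,
          ← Category.assoc ((EtCoh.bc (gi i)).map k).left,
          show ((EtCoh.bc (gi i)).map k).left ≫ pullback.fst U'.hom (gi i) = _ from bc_map_fst (gi i) k,
          show ((EtCoh.bc g).map k₂).left ≫ pullback.fst UU.hom g = _ from bc_map_fst g k₂]
        simp only [← Category.assoc]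
        rw [pullback.lift_fst]
        exact Category.assoc _ _ _
      · rw [Category.assoc, Category.assoc, pullback.lift_snd,
          ← Category.assoc ((EtCoh.bc (gi i)).map k).left,
          show ((EtCoh.bc (gi i)).map k).left ≫ pullback.snd U'.hom (gi i) = _ from bc_map_snd (gi i) k,
          show ((EtCoh.bc g).map k₂).left ≫ pullback.snd UU.hom g = _ from bc_map_snd g k₂,
          ← Category.assoc, pullback.lift_snd, (cT i).lift_fst]
    apply (bijective_pb F ((EtCoh.bc g).obj U₂)).1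
    rw [pb_res, pb_res, pb_congr F _ (o := (EtCoh.bc g).obj UU) ((Category.id_comp _).trans hmap.symm),
      pb_congr F _ (o := (EtCoh.bc g).obj UU) ((Category.id_comp _).trans hmap.symm)]
    exact key

end Local

end Groth.Agent.EtShDesc
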