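import Groth.Agent.EtShSep.Sections
import Groth.Prelude.Def_SGA4b
import Mathlib

/-!
Calculus of pullbacks of sections of a sheaf of sets along all morphisms, and descent data in those terms.
-/

set_option autoImplicit false
set_option backward.isDefEq.respectTransparency false
set_option backward.isDefEq.respectTransparency.types false
set_option maxHeartbeats 1000000
set_option linter.style.haveILetI false
set_option linter.unusedSectionVars false

universe u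

open CategoryTheory CategoryTheory.Limits AlgebraicGeometry Opposite

noncomputable section

namespace Groth.Agent.EtShDesc

open Groth.Agent.EtShLib Groth.Agent.EtShSep

/-- the identification of iterated pullbacks on pulled back sections -/
theorem pullVia_ru {W B S : Scheme.{u}} (a : W ⟶ B) (b : B ⟶ S) (k : W ⟶ S) (hk : a ≫ b = k) (F : EtDesc.Sh S)
    (T : W.Etale) (o : S.Etale) (δ₁ : T ⟶ (EtCoh.bc a).obj ((EtCoh.bc b).obj o)) (δ : T ⟶ (EtCoh.bc k).obj o)
    (h : δ₁.left ≫ pullback.fst ((EtCoh.bc b).obj o).hom a ≫ pullback.fst o.hom b = δ.left ≫ pullback.fst o.hom k)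
    (s : EtDesc.sect F o) :
    (EtDesc.pullVia a b k hk F).hom.hom.app (op T) (ru a ((EtDesc.pullSh b).obj F) δ₁ (unitSect b F o s)) =
      ru k F δ s := by
  subst hk
  let adjC := ((EtDesc.adjSh b).comp (EtDesc.adjSh a)).ofNatIsoRight (EtDesc.pushCompSh b a)
  have hθ : (EtDesc.pullVia a b (a ≫ b) rfl F).hom = ((EtDesc.pullCompSh a b).app F).inv := by
    simp [EtDesc.pullVia, EtDesc.pullCongrSh]
  rw [hθ]
  let θ := ((EtDesc.pullCompSh a b).app F).inv
  let K := (MorphismProperty.Over.pullbackComp (P := EtCoh.etaleMP) (Q := ⊤) a b).app o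
  have hu : adjC.unit.app F ≫ (EtDesc.pushSh (a ≫ b)).map θ = (EtDesc.adjSh (a ≫ b)).unit.app F := by
    rw [← Adjunction.unit_leftAdjointUniq_hom_app (EtDesc.adjSh (a ≫ b)) adjC F, Category.assoc, ← Functor.map_comp]
    refine Eq.trans (congrArg (fun m => _ ≫ (EtDesc.pushSh (a ≫ b)).map m) ?_) (by rw [CategoryTheory.Functor.map_id, Category.comp_id])
    exact ((EtDesc.pullCompSh a b).app F).hom_inv_id
  have h1 : θ.hom.app (op ((EtCoh.bc (a ≫ b)).obj o))
      (((EtDesc.pullSh a).obj ((EtDesc.pullSh b).obj F)).obj.map K.hom.op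
        (unitSect a ((EtDesc.pullSh b).obj F) ((EtCoh.bc b).obj o) (unitSect b F o s))) = unitSect (a ≫ b) F o s := by
    have := congrArg (fun m : F ⟶ (EtDesc.pushSh (a ≫ b)).obj ((EtDesc.pullSh (a ≫ b)).obj F) => m.hom.app (op o) s) hu
    refine Eq.trans ?_ this
    simp only [adjC, Adjunction.ofNatIsoRight, Adjunction.mkOfHomEquiv_unit_app]
    simp [EtDesc.pushCompSh, Adjunction.homEquiv_unit]
    exact NatTrans.naturality_apply θ.hom K.hom.op _
  have hδ : δ₁ = δ ≫ K.hom := by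
    refine bc_ext a (pullback.hom_ext ?_ ?_)
    · rw [Category.assoc, Category.assoc, h]
      refine Eq.trans ?_ (Category.assoc δ.left K.hom.left _).symm
      exact congrArg (δ.left ≫ ·) (MorphismProperty.Over.pullbackComp_left_fst_fst a b o).symm
    · rw [Category.assoc, Category.assoc]
      have e₁ : δ₁.left ≫ pullback.fst ((EtCoh.bc b).obj o).hom a ≫ pullback.snd o.hom b = T.hom ≫ a := by
        rw [show pullback.snd o.hom b = ((EtCoh.bc b).obj o).hom from rfl, pullback.condition, ← Category.assoc]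
        exact congrArg (· ≫ a) (MorphismProperty.Over.w δ₁)
      have e₂ : (δ ≫ K.hom).left ≫ pullback.fst ((EtCoh.bc b).obj o).hom a ≫ pullback.snd o.hom b = T.hom ≫ a := by
        rw [show pullback.snd o.hom b = ((EtCoh.bc b).obj o).hom from rfl, pullback.condition, ← Category.assoc]
        exact congrArg (· ≫ a) (MorphismProperty.Over.w (δ ≫ K.hom))
      exact e₁.trans e₂.symm
  subst hδ
  rw [← map_ru, ru, ru]
  refine (NatTrans.naturality_apply θ.hom δ.op _).trans (congrArg _ ?_)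
  exact h1

/-- morphisms out of an inverse image are determined by pulled back sections -/
theorem hom_ext {T X : Scheme.{u}} (u : T ⟶ X) {F : EtDesc.Sh X} {G : EtDesc.Sh T}
    {a b : (EtDesc.pullSh u).obj F ⟶ G}
    (h : ∀ (o : X.Etale) (s : EtDesc.sect F o),
      a.hom.app (op ((EtCoh.bc u).obj o)) (unitSect u F o s) = b.hom.app (op ((EtCoh.bc u).obj o)) (unitSect u F o s)) :
    a = b := by
  apply ((EtDesc.adjSh u).homEquiv _ _).injective
  rw [Adjunction.homEquiv_unit, Adjunction.homEquiv_unit]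
  refine ObjectProperty.hom_ext _ (NatTrans.ext (funext fun o => ?_))
  ext s
  exact h o.unop s

variable {X : Scheme.{u}} (F : EtDesc.Sh X)

/-- sections pulled back to the source of a morphism -/
abbrev Sec {T : Scheme.{u}} (u : T ⟶ X) : Type (u + 1) := EtDesc.sect ((EtDesc.pullSh u).obj F) (EtCoh.top T)

/-- the structure map of a point of a pulled back étale scheme -/
theorem bc_w {W B : Scheme.{u}} (g : W ⟶ B) {T : W.Etale} {o : B.Etale} (d : T ⟶ (EtCoh.bc g).obj o) :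
    (d.left ≫ pullback.fst o.hom g) ≫ o.hom = T.hom ≫ g :=
  (Category.assoc _ _ _).trans ((congrArg (d.left ≫ ·) pullback.condition).trans
    ((Category.assoc _ _ _).symm.trans (congrArg (· ≫ g) (MorphismProperty.Over.w d))))

/-- the structure map of a composite -/
theorem bc_w₂ {W B C : Scheme.{u}} (g : W ⟶ B) (u : B ⟶ C) (k : W ⟶ C) (hk : g ≫ u = k) {T : W.Etale} {V : B.Etale}
    {o : C.Etale} (d : T ⟶ (EtCoh.bc g).obj V) (e : V ⟶ (EtCoh.bc u).obj o) :
    ((d.left ≫ pullback.fst V.hom g) ≫ e.left ≫ pullback.fst o.hom u) ≫ o.hom = T.hom ≫ k :=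
  (Category.assoc _ _ _).trans ((congrArg ((d.left ≫ pullback.fst V.hom g) ≫ ·) (bc_w u e)).trans
    ((Category.assoc _ _ _).symm.trans ((congrArg (· ≫ u) (bc_w g d)).trans
      ((Category.assoc _ _ _).trans (congrArg (T.hom ≫ ·) hk)))))

/-- the structure map of a composite, tautological first step -/
theorem bc_w₁ {W B C : Scheme.{u}} (g : W ⟶ B) (u : B ⟶ C) (k : W ⟶ C) (hk : g ≫ u = k) {V : B.Etale}
    {o : C.Etale} (e : V ⟶ (EtCoh.bc u).obj o) :
    (pullback.fst V.hom g ≫ e.left ≫ pullback.fst o.hom u) ≫ o.hom = pullback.snd V.hom g ≫ k := by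
  rw [Category.assoc, show (e.left ≫ pullback.fst o.hom u) ≫ o.hom = V.hom ≫ u from bc_w u e, ← Category.assoc,
    pullback.condition, Category.assoc, hk]

/-- composites with transition maps, on the first projection -/
theorem comp_map_fst {W B : Scheme.{u}} (g : W ⟶ B) {T : W.Etale} {o o' : B.Etale} (d : T ⟶ (EtCoh.bc g).obj o)
    (a : o ⟶ o') : (d ≫ (EtCoh.bc g).map a).left ≫ pullback.fst o'.hom g = (d.left ≫ pullback.fst o.hom g) ≫ a.left :=
  (Category.assoc d.left _ _).trans ((congrArg (d.left ≫ ·) (bc_map_fst g a)).trans (Category.assoc _ _ _).symm)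

/-- every section of an inverse image is locally pulled back -/
theorem exists_rep {T : Scheme.{u}} (u : T ⟶ X) {V : T.Etale} (x : EtDesc.sect ((EtDesc.pullSh u).obj F) V)
    (q : V.left) : ∃ (W : T.Etale) (a : W ⟶ V) (o : X.Etale) (ε : W ⟶ (EtCoh.bc u).obj o) (s : EtDesc.sect F o),
      q ∈ Set.range a.left ∧ ((EtDesc.pullSh u).obj F).obj.map a.op x = ru u F ε s := by
  obtain ⟨Ω, _, _, ξ, -, hξ⟩ := EtStalk.covers_all (X := V.left) q
  let v0 : Over.mk (ξ ≫ V.hom) ⟶ (Scheme.Etale.forget T).obj V := Over.homMk ξ rfl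
  obtain ⟨γ, hγ, hγg⟩ := exists_pullGerm u (ξ ≫ V.hom) ((ξ ≫ V.hom) ≫ u) rfl F
  obtain ⟨z, hz⟩ := hγ.2 (gm (ξ ≫ V.hom) ((EtDesc.pullSh u).obj F) V v0 x)
  obtain ⟨o, v, σ, rfl⟩ := gm_surjective (G := F) _ z
  rw [hγg] at hz
  obtain ⟨Z, z, a, b, ha, hb⟩ := exists_common (ξ ≫ V.hom)
    (EtPushStalk.up u (ξ ≫ V.hom) (Over.homMk v.left ((Over.w v).trans rfl))) v0
  rw [← ha, ← hb, ← gm_map, ← gm_map, gm_eq_iff] at hz
  obtain ⟨W, k, ⟨w, hw⟩, he⟩ := hz
  refine ⟨W, k ≫ b, o, k ≫ a, σ, ⟨w, ?_⟩, ?_⟩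
  · have e : z.left ≫ b.left = ξ := congrArg CommaMorphism.left hb
    refine (Scheme.Hom.comp_apply k.left b.left w).trans ((congrArg b.left hw).trans
      ((Scheme.Hom.comp_apply _ _ _).symm.trans ?_))
    exact (congrArg (fun k : Spec (CommRingCat.of Ω) ⟶ V.left => k default) e).trans hξ
  · rw [← map_map, ru, ← map_map]
    exact he.symm

/-- evaluating a composite of morphisms of sheaves -/
theorem app_comp {T : Scheme.{u}} {A B C : EtDesc.Sh T} (a : A ⟶ B) (b : B ⟶ C) (V : T.Etale) (x : EtDesc.sect A V) :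
    (a ≫ b).hom.app (op V) x = b.hom.app (op V) (a.hom.app (op V) x) := rfl

theorem app_hom_inv {T : Scheme.{u}} {A B : EtDesc.Sh T} (e : A ≅ B) (V : T.Etale) (x : EtDesc.sect A V) :
    e.inv.hom.app (op V) (e.hom.hom.app (op V) x) = x :=
  congrArg (fun k : A ⟶ A => k.hom.app (op V) x) e.hom_inv_id

/-- pulled back morphisms on pulled back sections -/
theorem map_app_ru {T S : Scheme.{u}} (g : T ⟶ S) {A B : EtDesc.Sh S} (a : A ⟶ B) {V : T.Etale} {o : S.Etale}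
    (δ : V ⟶ (EtCoh.bc g).obj o) (z : EtDesc.sect A o) :
    ((EtDesc.pullSh g).map a).hom.app (op V) (ru g A δ z) = ru g B δ (a.hom.app (op o) z) := by
  rw [ru, ru]
  refine (NatTrans.naturality_apply ((EtDesc.pullSh g).map a).hom δ.op _).trans (congrArg _ ?_)
  have h := congrArg (fun k => k.hom.app (op o) z) ((EtDesc.adjSh g).unit.naturality a)
  exact h.symm

/-- the value of a morphism of sheaves -/
def appH {T : Scheme.{u}} {A B : EtDesc.Sh T} (a : A ⟶ B) (V : T.Etale) (x : EtDesc.sect A V) : EtDesc.sect B V :=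
  a.hom.app (op V) x

theorem appH_def {T : Scheme.{u}} {A B : EtDesc.Sh T} (a : A ⟶ B) (V : T.Etale) (x : EtDesc.sect A V) :
    appH a V x = a.hom.app (op V) x := rfl

theorem appH_comp {T : Scheme.{u}} {A B C : EtDesc.Sh T} (a : A ⟶ B) (b : B ⟶ C) (V : T.Etale) (x : EtDesc.sect A V) :
    appH (a ≫ b) V x = appH b V (appH a V x) := rfl

theorem appH_id {T : Scheme.{u}} (A : EtDesc.Sh T) (V : T.Etale) (x : EtDesc.sect A V) : appH (𝟙 A) V x = x := rfl

theorem appH_hom_inv {T : Scheme.{u}} {A B : EtDesc.Sh T} (e : A ≅ B) (V : T.Etale) (x : EtDesc.sect A V) :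
    appH e.inv V (appH e.hom V x) = x := app_hom_inv e V x

theorem map_appH {T : Scheme.{u}} {A B : EtDesc.Sh T} (a : A ⟶ B) {V V' : T.Etale} (e : V' ⟶ V) (x : EtDesc.sect A V) :
    B.obj.map e.op (appH a V x) = appH a V' (A.obj.map e.op x) :=
  (NatTrans.naturality_apply a.hom e.op x).symm

theorem appH_ru {T S : Scheme.{u}} (g : T ⟶ S) {A B : EtDesc.Sh S} (a : A ⟶ B) {V : T.Etale} {o : S.Etale}
    (δ : V ⟶ (EtCoh.bc g).obj o) (z : EtDesc.sect A o) :
    appH ((EtDesc.pullSh g).map a) V (ru g A δ z) = ru g B δ (appH a o z) := map_app_ru g a δ z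

theorem appH_conj {T : Scheme.{u}} {A A' B B' : EtDesc.Sh T} (e₁ : A ≅ A') (m : A ⟶ B) (e₂ : B ≅ B') (V : T.Etale)
    (x : EtDesc.sect A V) :
    appH (e₁.inv ≫ m ≫ e₂.hom) V (appH e₁.hom V x) = appH e₂.hom V (appH m V x) := by
  rw [appH_comp, appH_comp, appH_hom_inv]

theorem bijective_appH {T : Scheme.{u}} {A B : EtDesc.Sh T} (a : A ⟶ B) [IsIso a] (V : T.Etale) :
    Function.Bijective (appH a V) := by
  haveI : IsIso a.hom := inferInstanceAs (IsIso ((sheafToPresheaf _ _).map a))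
  exact ConcreteCategory.bijective_of_isIso (a.hom.app (op V))

section Tr

variable {T T' T'' : Scheme.{u}} (g : T' ⟶ T) (h : T'' ⟶ T') (u : T ⟶ X) (u' : T' ⟶ X) (hu : g ≫ u = u')

/-- pulling a section further back -/
def tr {V : T.Etale} {V' : T'.Etale} (δ : V' ⟶ (EtCoh.bc g).obj V) (x : EtDesc.sect ((EtDesc.pullSh u).obj F) V) :
    EtDesc.sect ((EtDesc.pullSh u').obj F) V' :=
  appH (EtDesc.pullVia g u u' hu F).hom V' (ru g ((EtDesc.pullSh u).obj F) δ x)

theorem map_tr {V : T.Etale} {V' V'' : T'.Etale} (e : V'' ⟶ V') (δ : V' ⟶ (EtCoh.bc g).obj V)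
    (x : EtDesc.sect ((EtDesc.pullSh u).obj F) V) :
    ((EtDesc.pullSh u').obj F).obj.map e.op (tr F g u u' hu δ x) = tr F g u u' hu (e ≫ δ) x := by
  rw [tr, tr, ← map_ru]
  exact map_appH _ e _

theorem tr_res {V V₁ : T.Etale} {V' : T'.Etale} (a : V₁ ⟶ V) (δ : V' ⟶ (EtCoh.bc g).obj V₁)
    (x : EtDesc.sect ((EtDesc.pullSh u).obj F) V) :
    tr F g u u' hu δ (((EtDesc.pullSh u).obj F).obj.map a.op x) = tr F g u u' hu (δ ≫ (EtCoh.bc g).map a) x := by
  rw [tr, tr, ru_res]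

theorem tr_ru {V : T.Etale} {V' : T'.Etale} (δ : V' ⟶ (EtCoh.bc g).obj V) {o : X.Etale}
    (ε : V ⟶ (EtCoh.bc u).obj o) (ε' : V' ⟶ (EtCoh.bc u').obj o)
    (he : (δ.left ≫ pullback.fst V.hom g) ≫ ε.left ≫ pullback.fst o.hom u = ε'.left ≫ pullback.fst o.hom u')
    (s : EtDesc.sect F o) : tr F g u u' hu δ (ru u F ε s) = ru u' F ε' s := by
  refine Eq.trans (congrArg (appH (EtDesc.pullVia g u u' hu F).hom V')
    (ru_res g ((EtDesc.pullSh u).obj F) ε δ (unitSect u F o s))) ?_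
  refine pullVia_ru g u u' hu F V' o _ ε' ?_ s
  exact (fst_map_comp g δ ε _).trans he

theorem tr_tr (u'' : T'' ⟶ X) (hu' : h ≫ u' = u'') {V : T.Etale} {V' : T'.Etale} {V'' : T''.Etale}
    (δ : V' ⟶ (EtCoh.bc g).obj V) (ε : V'' ⟶ (EtCoh.bc h).obj V') (k : T'' ⟶ T) (hk : h ≫ g = k)
    (ζ : V'' ⟶ (EtCoh.bc k).obj V)
    (he : (ε.left ≫ pullback.fst V'.hom h) ≫ δ.left ≫ pullback.fst V.hom g = ζ.left ≫ pullback.fst V.hom k)
    (x : EtDesc.sect ((EtDesc.pullSh u).obj F) V) :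
    tr F h u' u'' hu' ε (tr F g u u' hu δ x) =
      tr F k u u'' (by rw [← hk, Category.assoc, hu, hu']) ζ x := by
  subst hk
  have hw : (h ≫ g) ≫ u = u'' := by rw [Category.assoc, hu, hu']
  refine eq_of_eqLoc fun p => ?_
  let q : V.left := (ζ.left ≫ pullback.fst V.hom (h ≫ g)) p
  obtain ⟨W, a, o, ε₀, s, hq, hW⟩ := exists_rep F u x q
  obtain ⟨r, hr, -⟩ := Scheme.exists_preimage_of_isPullback (EtCoh.isPullback_bc_map (h ≫ g) a)
    (ζ.left p) _ ((Scheme.Hom.comp_apply _ _ _).symm.trans hq.choose_spec.symm)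
  obtain ⟨Z, a', b', hab, hZ⟩ := exists_fibreProd ζ ((EtCoh.bc (h ≫ g)).map a)
  obtain ⟨z, hz, -⟩ := hZ p r hr.symm
  refine ⟨Z, a', ⟨z, hz⟩, ?_⟩
  rw [map_tr, map_tr, hab, ← tr_res, hW]
  let γ : Z ⟶ (EtCoh.bc u'').obj o := mkδ u''
    ((b'.left ≫ pullback.fst W.hom (h ≫ g)) ≫ ε₀.left ≫ pullback.fst o.hom u) (bc_w₂ (h ≫ g) u u'' hw b' ε₀)
  rw [tr_ru F (h ≫ g) u u'' hw b' ε₀ γ (mkδ_fst _ _ _).symm s]
  -- the composite side
  let W₁ := (EtCoh.bc g).obj W
  let d : Z ⟶ (EtCoh.bc h).obj V' := a' ≫ ε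
  let m₁ : Z.left ⟶ W₁.left := pullback.lift (b'.left ≫ pullback.fst W.hom (h ≫ g)) (Z.hom ≫ h)
    ((bc_w (h ≫ g) b').trans (Category.assoc _ _ _).symm)
  let d₁ : Z ⟶ (EtCoh.bc h).obj W₁ := mkδ h m₁ (pullback.lift_snd _ _ _)
  have e : d ≫ (EtCoh.bc h).map δ = d₁ ≫ (EtCoh.bc h).map ((EtCoh.bc g).map a) := by
    refine bc_ext h ?_
    refine (comp_map_fst h d δ).trans ((Eq.symm ?_).trans (comp_map_fst h d₁ ((EtCoh.bc g).map a)).symm)
    rw [show d₁.left ≫ pullback.fst W₁.hom h = m₁ from mkδ_fst _ _ _]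
    refine pullback.hom_ext ?_ ?_
    · rw [Category.assoc, Category.assoc, bc_map_fst, ← Category.assoc, pullback.lift_fst]
      refine Eq.trans ?_ ((congrArg (a'.left ≫ ·) he.symm).trans ?_)
      · refine Eq.trans ?_ ((congrArg (fun z => z ≫ pullback.fst V.hom (h ≫ g)) (congrArg (fun z : Z ⟶ _ => z.left) hab)).symm.trans
          (Category.assoc a'.left ζ.left _))
        exact (comp_map_fst (h ≫ g) b' a).symm
      · simp only [d, Category.assoc]
        exact (Category.assoc a'.left ε.left _).symm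
    · rw [Category.assoc, Category.assoc, bc_map_snd, pullback.lift_snd]
      refine Eq.trans ?_ (congrArg (fun z => (d.left ≫ pullback.fst V'.hom h) ≫ z) (MorphismProperty.Over.w δ)).symm
      rw [Category.assoc, pullback.condition, ← Category.assoc]
      exact congrArg (· ≫ h) (MorphismProperty.Over.w d).symm
  have h2 : tr F h u' u'' hu' d (tr F g u u' hu δ x) =
      tr F h u' u'' hu' d₁ (tr F g u u' hu (𝟙 W₁) (((EtDesc.pullSh u).obj F).obj.map a.op x)) := by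
    have e1 : tr F g u u' hu δ x = ((EtDesc.pullSh u').obj F).obj.map δ.op (tr F g u u' hu (𝟙 _) x) := by
      rw [map_tr, Category.comp_id]
    rw [e1, tr_res, tr_res, e, ← tr_res, map_tr, Category.comp_id, Category.id_comp]
  rw [h2, hW]
  let ε₁ : W₁ ⟶ (EtCoh.bc u').obj o := mkδ u' (pullback.fst W.hom g ≫ ε₀.left ≫ pullback.fst o.hom u)
    (bc_w₁ g u u' hu ε₀)
  rw [tr_ru F g u u' hu (𝟙 W₁) ε₀ ε₁ ((congrArg (· ≫ ε₀.left ≫ pullback.fst o.hom u)
    (Category.id_comp (pullback.fst W.hom g))).trans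
    (show _ = ε₁.left ≫ pullback.fst o.hom u' from (mkδ_fst u' (T := W₁) (o := o) _ _).symm)) s]
  refine tr_ru F h u' u'' hu' d₁ ε₁ γ ?_ s
  rw [show d₁.left ≫ pullback.fst W₁.hom h = m₁ from mkδ_fst _ _ _,
    show ε₁.left ≫ pullback.fst o.hom u' = _ from mkδ_fst _ _ _, ← Category.assoc, pullback.lift_fst]
  exact (mkδ_fst _ _ _).symm

end Tr

section Res

variable {T T' T'' : Scheme.{u}}

/-- pulling sections over the whole source back -/
def res (g : T' ⟶ T) (u : T ⟶ X) (u' : T' ⟶ X) (hu : g ≫ u = u') (x : Sec F u) : Sec F u' :=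
  tr F g u u' hu (mkδ g (T := EtCoh.top T') (o := EtCoh.top T) g
    ((Category.comp_id _).trans (Category.id_comp _).symm)) x

/-- sections over an étale scheme as sections of the pullback to it -/
def toSec (u : T ⟶ X) (V : T.Etale) (u' : V.left ⟶ X) (hu : V.hom ≫ u = u')
    (x : EtDesc.sect ((EtDesc.pullSh u).obj F) V) : Sec F u' :=
  tr F V.hom u u' hu (δdiag V) x

theorem bijective_toSec (u : T ⟶ X) (V : T.Etale) (u' : V.left ⟶ X) (hu : V.hom ≫ u = u') :
    Function.Bijective (toSec F u V u' hu) :=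
  (bijective_appH (EtDesc.pullVia V.hom u u' hu F).hom (EtCoh.top V.left)).comp
      (bijective_ru_etale ((EtDesc.pullSh u).obj F) V)

theorem res_res (g : T' ⟶ T) (h : T'' ⟶ T') (k : T'' ⟶ T) (hk : h ≫ g = k) (u : T ⟶ X) (u' : T' ⟶ X)
    (u'' : T'' ⟶ X) (hu : g ≫ u = u') (hu' : h ≫ u' = u'') (x : Sec F u) :
    res F h u' u'' hu' (res F g u u' hu x) = res F k u u'' (by rw [← hk, Category.assoc, hu, hu']) x := by
  refine tr_tr F g h u u' hu u'' hu' _ _ k hk _ ?_ x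
  rw [mkδ_fst, mkδ_fst, mkδ_fst, hk]

theorem toSec_res (u : T ⟶ X) (V : T.Etale) (u' : V.left ⟶ X) (hu : V.hom ≫ u = u') (x : Sec F u) :
    toSec F u V u' hu (((EtDesc.pullSh u).obj F).obj.map (tT V).op x) = res F V.hom u u' hu x := by
  refine (tr_res F V.hom u u' hu (tT V) (δdiag V) x).trans
    (congrArg (fun d => tr F V.hom u u' hu d x) (bc_ext V.hom ?_))
  rw [comp_map_fst, δdiag, mkδ_fst]
  exact (Category.id_comp _).trans (mkδ_fst V.hom (T := EtCoh.top V.left) (o := EtCoh.top T) V.hom _).symm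

theorem res_toSec (g : T' ⟶ T) (u : T ⟶ X) (v : T' ⟶ X) (hv : g ≫ u = v) (V : T.Etale) (m : T' ⟶ V.left)
    (hm : m ≫ V.hom = g) (u' : V.left ⟶ X) (hu : V.hom ≫ u = u') (x : EtDesc.sect ((EtDesc.pullSh u).obj F) V) :
    res F m u' v (by rw [← hu, ← Category.assoc, hm, hv]) (toSec F u V u' hu x) =
      tr F g u v hv (mkδ g (T := EtCoh.top T') (o := V) m (hm.trans (Category.id_comp _).symm)) x := by
  refine tr_tr F V.hom m u u' hu v _ _ _ g hm _ ?_ x
  rw [mkδ_fst, δdiag, mkδ_fst, mkδ_fst]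
  exact Category.comp_id _

/-- pullback along a surjection is injective -/
theorem injective_res (g : T' ⟶ T) (u : T ⟶ X) (u' : T' ⟶ X) (hu : g ≫ u = u') (hg : Function.Surjective g) :
    Function.Injective (res F g u u' hu) := by
  refine (bijective_appH (EtDesc.pullVia g u u' hu F).hom (EtCoh.top T')).1.comp ?_
  refine injective_ru g ((EtDesc.pullSh u).obj F) _ fun y => ?_
  obtain ⟨z, rfl⟩ := hg y
  exact ⟨z, fst_apply g (T := EtCoh.top T') (o := EtCoh.top T) g _ z⟩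

theorem res_id (u : T ⟶ X) (x : Sec F u) : res F (𝟙 T) u u (Category.id_comp u) x = x :=
  injective_res F (𝟙 T) u u (Category.id_comp u) (fun y => ⟨y, rfl⟩)
    (res_res F (𝟙 T) (𝟙 T) (𝟙 T) (Category.id_comp _) u u u (Category.id_comp u) (Category.id_comp u) x)

/-- sections agree if they agree after étale localisation -/
theorem sec_ext (u : T ⟶ X) (x y : Sec F u)
    (h : ∀ p : T, ∃ (V : T.Etale), p ∈ Set.range V.hom ∧ res F V.hom u _ rfl x = res F V.hom u _ rfl y) : x = y := by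
  refine eq_of_eqLoc fun p => ?_
  obtain ⟨V, ⟨v, hv⟩, e⟩ := h p
  rw [← toSec_res, ← toSec_res] at e
  exact ⟨V, tT V, ⟨v, hv⟩, (bijective_toSec F u V _ rfl).1 e⟩

end Res

section Datum

variable {B : Scheme.{u}} {f : X ⟶ B}
  (φ : (EtDesc.pullSh (pullback.fst f f)).obj F ≅ (EtDesc.pullSh (pullback.snd f f)).obj F)

/-- the datum pulled back along a map to the double product -/
def datum {T : Scheme.{u}} (w : T ⟶ pullback f f) (u₁ u₂ : T ⟶ X) (h₁ : w ≫ pullback.fst f f = u₁)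
    (h₂ : w ≫ pullback.snd f f = u₂) : (EtDesc.pullSh u₁).obj F ≅ (EtDesc.pullSh u₂).obj F :=
  (EtDesc.pullVia w (pullback.fst f f) u₁ h₁ F).symm ≪≫ (EtDesc.pullSh w).mapIso φ ≪≫
    EtDesc.pullVia w (pullback.snd f f) u₂ h₂ F

/-- the datum on transported sections -/
theorem datum_tr_fst {T : Scheme.{u}} (w : T ⟶ pullback f f) (u₁ u₂ : T ⟶ X) (h₁ : w ≫ pullback.fst f f = u₁)
    (h₂ : w ≫ pullback.snd f f = u₂) {V : T.Etale} {o : (pullback f f).Etale} (δ : V ⟶ (EtCoh.bc w).obj o)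
    (z : EtDesc.sect ((EtDesc.pullSh (pullback.fst f f)).obj F) o) :
    appH (datum F φ w u₁ u₂ h₁ h₂).hom V (tr F w (pullback.fst f f) u₁ h₁ δ z) =
      tr F w (pullback.snd f f) u₂ h₂ δ (appH φ.hom o z) := by
  rw [tr, tr, ← appH_ru]
  exact appH_conj (EtDesc.pullVia w (pullback.fst f f) u₁ h₁ F) ((EtDesc.pullSh w).map φ.hom)
    (EtDesc.pullVia w (pullback.snd f f) u₂ h₂ F) V (ru w _ δ z)

/-- the datum commutes with pullbacks -/
theorem datum_natural {T T' : Scheme.{u}} (g : T' ⟶ T) (w : T ⟶ pullback f f) (w' : T' ⟶ pullback f f)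
    (hw : g ≫ w = w') (u₁ u₂ : T ⟶ X) (h₁ : w ≫ pullback.fst f f = u₁) (h₂ : w ≫ pullback.snd f f = u₂)
    (v₁ v₂ : T' ⟶ X) (k₁ : w' ≫ pullback.fst f f = v₁) (k₂ : w' ≫ pullback.snd f f = v₂)
    {V : T.Etale} {V' : T'.Etale} (δ : V' ⟶ (EtCoh.bc g).obj V) (x : EtDesc.sect ((EtDesc.pullSh u₁).obj F) V) :
    appH (datum F φ w' v₁ v₂ k₁ k₂).hom V'
        (tr F g u₁ v₁ (by rw [← h₁, ← Category.assoc, hw, k₁]) δ x) =
      tr F g u₂ v₂ (by rw [← h₂, ← Category.assoc, hw, k₂]) δ (appH (datum F φ w u₁ u₂ h₁ h₂).hom V x) := by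
  refine eq_of_eqLoc fun p => ?_
  obtain ⟨W, a, o, ε₀, s, hq, hW⟩ := exists_rep F u₁ x ((δ.left ≫ pullback.fst V.hom g) p)
  obtain ⟨r, hr, -⟩ := Scheme.exists_preimage_of_isPullback (EtCoh.isPullback_bc_map g a)
    (δ.left p) _ ((Scheme.Hom.comp_apply _ _ _).symm.trans hq.choose_spec.symm)
  obtain ⟨Z, a', b', hab, hZ⟩ := exists_fibreProd δ ((EtCoh.bc g).map a)
  obtain ⟨z, hz, -⟩ := hZ p r hr.symm
  refine ⟨Z, a', ⟨z, hz⟩, ?_⟩
  rw [map_tr, hab, ← tr_res, map_appH, map_tr, hab, ← tr_res, map_appH, hW]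
  let O := (EtCoh.bc (pullback.fst f f)).obj o
  let δw : W ⟶ (EtCoh.bc w).obj O := mkδ w (pullback.lift (ε₀.left ≫ pullback.fst o.hom u₁) (W.hom ≫ w)
      (by rw [bc_w u₁ ε₀, Category.assoc, h₁])) (pullback.lift_snd _ _ _)
  let z₀ := unitSect (pullback.fst f f) F o s
  have hx : ru u₁ F ε₀ s = tr F w (pullback.fst f f) u₁ h₁ δw z₀ := by
    rw [show z₀ = ru (pullback.fst f f) F (𝟙 _) s by simp [ru, z₀]]
    refine (tr_ru F w (pullback.fst f f) u₁ h₁ δw (𝟙 _) ε₀ ?_ s).symm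
    rw [show δw.left ≫ pullback.fst O.hom w = _ from mkδ_fst _ _ _]
    exact (congrArg (fun z => _ ≫ z) (Category.id_comp _)).trans (pullback.lift_fst _ _ _)
  let δ' : Z ⟶ (EtCoh.bc w').obj O := mkδ w' ((b'.left ≫ pullback.fst W.hom g) ≫ δw.left ≫ pullback.fst O.hom w)
    (bc_w₂ g w w' hw b' δw)
  rw [hx, datum_tr_fst, tr_tr F w g (pullback.fst f f) u₁ h₁ v₁ _ δw b' w' hw δ' (mkδ_fst _ _ _).symm, datum_tr_fst,
    tr_tr F w g (pullback.snd f f) u₂ h₂ v₂ _ δw b' w' hw δ' (mkδ_fst _ _ _).symm]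

/-- the datum on sections over the whole source -/
def Φ {T : Scheme.{u}} (u₁ u₂ : T ⟶ X) (h : u₁ ≫ f = u₂ ≫ f) (x : Sec F u₁) : Sec F u₂ :=
  appH (datum F φ (pullback.lift u₁ u₂ h) u₁ u₂ (pullback.lift_fst _ _ _) (pullback.lift_snd _ _ _)).hom
    (EtCoh.top T) x

theorem res_Φ {T T' : Scheme.{u}} (g : T' ⟶ T) (u₁ u₂ : T ⟶ X) (h : u₁ ≫ f = u₂ ≫ f) (v₁ v₂ : T' ⟶ X)
    (k₁ : g ≫ u₁ = v₁) (k₂ : g ≫ u₂ = v₂) (x : Sec F u₁) :
    res F g u₂ v₂ k₂ (Φ F φ u₁ u₂ h x) =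
      Φ F φ v₁ v₂ (by rw [← k₁, ← k₂, Category.assoc, Category.assoc, h]) (res F g u₁ v₁ k₁ x) := by
  have h' : v₁ ≫ f = v₂ ≫ f := by rw [← k₁, ← k₂, Category.assoc, Category.assoc, h]
  have hw : g ≫ pullback.lift u₁ u₂ h = pullback.lift v₁ v₂ h' := by apply pullback.hom_ext <;> simp [k₁, k₂]
  have key := datum_natural F φ g (pullback.lift u₁ u₂ h) (pullback.lift v₁ v₂ h') hw u₁ u₂
    (pullback.lift_fst _ _ _) (pullback.lift_snd _ _ _) v₁ v₂ (pullback.lift_fst _ _ _) (pullback.lift_snd _ _ _)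
    (V := EtCoh.top T) (V' := EtCoh.top T') (mkδ g (T := EtCoh.top T') (o := EtCoh.top T) g
      ((Category.comp_id _).trans (Category.id_comp _).symm)) x
  exact key.symm

theorem bijective_datum {T : Scheme.{u}} (w : T ⟶ pullback f f) (u₁ u₂ : T ⟶ X) (h₁ : w ≫ pullback.fst f f = u₁)
    (h₂ : w ≫ pullback.snd f f = u₂) (V : T.Etale) : Function.Bijective (appH (datum F φ w u₁ u₂ h₁ h₂).hom V) :=
  bijective_appH _ V

theorem bijective_Φ {T : Scheme.{u}} (u₁ u₂ : T ⟶ X) (h : u₁ ≫ f = u₂ ≫ f) : Function.Bijective (Φ F φ u₁ u₂ h) := by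
  have e : Φ F φ u₁ u₂ h = fun x => appH (datum F φ (pullback.lift u₁ u₂ h) u₁ u₂ (pullback.lift_fst _ _ _) (pullback.lift_snd _ _ _)).hom
    (EtCoh.top T) x := funext fun x => by rw [Φ]
  rw [e]
  exact bijective_datum F φ (pullback.lift u₁ u₂ h) u₁ u₂ (pullback.lift_fst _ _ _) (pullback.lift_snd _ _ _) (EtCoh.top T)

theorem cocycle_datum (hφ : EtDesc.IsCocycle F φ) {T : Scheme.{u}} (k : T ⟶ EtDesc.X3 f) (u₁ u₂ u₃ : T ⟶ X)
    (e₁ : k ≫ EtDesc.q1 = u₁) (e₂ : k ≫ EtDesc.q2 = u₂) (e₃ : k ≫ EtDesc.q3 = u₃) :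
    (datum F φ (k ≫ EtDesc.p12 f) u₁ u₂ (by rw [Category.assoc]; exact e₁) (by rw [Category.assoc]; exact e₂)).hom ≫
      (datum F φ (k ≫ EtDesc.p23 f) u₂ u₃ (by rw [Category.assoc, EtDesc.p23_fst]; exact e₂)
        (by rw [Category.assoc]; exact e₃)).hom =
      (datum F φ (k ≫ EtDesc.p13 f) u₁ u₃ (by rw [Category.assoc, EtDesc.p13_fst]; exact e₁)
        (by rw [Category.assoc, EtDesc.p13_snd]; exact e₃)).hom := by
  refine hom_ext u₁ fun o s => ?_
  let q : EtDesc.X3 f ⟶ X := EtDesc.q1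
  let δ : (EtCoh.bc u₁).obj o ⟶ (EtCoh.bc k).obj ((EtCoh.bc q).obj o) := mkδ k
    (pullback.lift (pullback.fst o.hom u₁) (pullback.snd o.hom u₁ ≫ k)
      (by rw [pullback.condition, Category.assoc, e₁])) (pullback.lift_snd _ _ _)
  have hz : tr F k q u₁ e₁ δ (unitSect q F o s) = unitSect u₁ F o s := by
    rw [show unitSect q F o s = ru q F (𝟙 _) s by simp [ru], show unitSect u₁ F o s = ru u₁ F (𝟙 _) s by simp [ru]]
    refine tr_ru F k q u₁ e₁ δ (𝟙 _) (𝟙 _) ?_ s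
    rw [show δ.left ≫ pullback.fst ((EtCoh.bc q).obj o).hom k = _ from mkδ_fst _ _ _]
    exact ((congrArg (fun z => _ ≫ z) (Category.id_comp _)).trans (pullback.lift_fst _ _ _)).trans (Category.id_comp _).symm
  rw [← hz]
  rw [← appH_def, ← appH_def, appH_comp]
  rw [datum_natural F φ k (EtDesc.p12 f) _ rfl q EtDesc.q2 rfl rfl u₁ u₂ _ _ δ,
    datum_natural F φ k (EtDesc.p23 f) _ rfl EtDesc.q2 EtDesc.q3 EtDesc.p23_fst rfl u₂ u₃ _ _ δ,
    datum_natural F φ k (EtDesc.p13 f) _ rfl q EtDesc.q3 EtDesc.p13_fst EtDesc.p13_snd u₁ u₃ _ _ δ]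
  refine congrArg (tr F k EtDesc.q3 u₃ e₃ δ) ?_
  rw [← appH_comp]
  exact congrArg (fun m : (EtDesc.pullSh EtDesc.q1).obj F ⟶ (EtDesc.pullSh EtDesc.q3).obj F =>
    appH m _ (unitSect q F o s)) hφ

variable (hφ : EtDesc.IsCocycle F φ)
include hφ

theorem Φ_Φ {T : Scheme.{u}} (u₁ u₂ u₃ : T ⟶ X) (h : u₁ ≫ f = u₂ ≫ f) (h' : u₂ ≫ f = u₃ ≫ f) (x : Sec F u₁) :
    Φ F φ u₂ u₃ h' (Φ F φ u₁ u₂ h x) = Φ F φ u₁ u₃ (h.trans h') x := by
  let k : T ⟶ EtDesc.X3 f := pullback.lift (pullback.lift u₁ u₂ h) (pullback.lift u₂ u₃ h') (by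
    rw [pullback.lift_snd, pullback.lift_fst])
  have h12 : k ≫ EtDesc.p12 f = pullback.lift u₁ u₂ h := pullback.lift_fst _ _ _
  have h23 : k ≫ EtDesc.p23 f = pullback.lift u₂ u₃ h' := pullback.lift_snd _ _ _
  have h13 : k ≫ EtDesc.p13 f = pullback.lift u₁ u₃ (h.trans h') := by
    apply pullback.hom_ext
    · rw [Category.assoc, EtDesc.p13_fst, pullback.lift_fst, EtDesc.q1, ← Category.assoc, h12, pullback.lift_fst]
    · rw [Category.assoc, EtDesc.p13_snd, pullback.lift_snd, EtDesc.q3, ← Category.assoc, h23, pullback.lift_snd]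
  have key := cocycle_datum F φ hφ k u₁ u₂ u₃
    (by rw [EtDesc.q1, ← Category.assoc, h12, pullback.lift_fst])
    (by rw [EtDesc.q2, ← Category.assoc, h12, pullback.lift_snd])
    (by rw [EtDesc.q3, ← Category.assoc, h23, pullback.lift_snd])
  simp only [h12, h23, h13] at key
  rw [Φ, Φ, Φ, ← appH_comp]
  exact congrArg (fun m : (EtDesc.pullSh u₁).obj F ⟶ (EtDesc.pullSh u₃).obj F => appH m (EtCoh.top T) x) key

theorem Φ_self {T : Scheme.{u}} (u : T ⟶ X) (x : Sec F u) : Φ F φ u u rfl x = x :=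
  (bijective_Φ F φ u u rfl).1 (Φ_Φ F φ hφ u u u rfl rfl x)

end Datum

end Groth.Agent.EtShDesc
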