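import Groth.Agent.EtShDesc.Morph

/-!
The sheaf of descended sections of a descent datum and the criterion for effectivity.
-/

set_option autoImplicit false
set_option backward.isDefEq.respectTransparency false
set_option backward.isDefEq.respectTransparency.types false
set_option maxHeartbeats 1000000
set_option linter.style.haveILetI false
set_option linter.unusedSectionVars false

universe u

open CategoryTheory CategoryTheory.Limits AlgebraicGeometry Opposite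

noncomputable section

namespace Groth.Agent.EtShDesc

open Groth.Agent.EtShLib Groth.Agent.EtShSep

theorem exists_mem_range_of_mem {S : Scheme.{u}} {U : S.Etale} {R : Sieve U} (hR : R ∈ S.smallEtaleTopology U)
    (x : U.left) : ∃ (V : S.Etale) (g : V ⟶ U), R g ∧ x ∈ Set.range g.left := by
  let ι := Σ V : S.Etale, {g : V ⟶ U // R g}
  have h : Sieve.ofArrows (fun i : ι => i.1) (fun i => i.2.1) = R := by
    refine Sieve.ext fun V g => ⟨fun h => ?_, fun h => Sieve.ofArrows_mk _ (fun i : ι => i.2.1) ⟨V, g, h⟩⟩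
    obtain ⟨_, c, _, ⟨i⟩, rfl⟩ := h
    exact R.downward_closed i.2.2 c
  rw [← h, Scheme.ofArrows_mem_smallEtaleTopology_iff] at hR
  obtain ⟨i, hi⟩ := Set.mem_iUnion.mp (hR.ge (Set.mem_univ x))
  exact ⟨i.1, i.2.1, i.2.2, hi⟩

variable {B X' : Scheme.{u}} {f : X' ⟶ B} (F' : EtDesc.Sh X')
  (φ : (EtDesc.pullSh (pullback.fst f f)).obj F' ≅ (EtDesc.pullSh (pullback.snd f f)).obj F')

theorem datum_eq_Φ {T : Scheme.{u}} (w : T ⟶ pullback f f) (u₁ u₂ : T ⟶ X') (h₁ : w ≫ pullback.fst f f = u₁)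
    (h₂ : w ≫ pullback.snd f f = u₂) (x : Sec F' u₁) :
    appH (datum F' φ w u₁ u₂ h₁ h₂).hom (EtCoh.top T) x =
      Φ F' φ u₁ u₂ (by rw [← h₁, ← h₂, Category.assoc, Category.assoc, pullback.condition]) x := by
  have h : u₁ ≫ f = u₂ ≫ f := by rw [← h₁, ← h₂, Category.assoc, Category.assoc, pullback.condition]
  have hw : w = pullback.lift u₁ u₂ h := by apply pullback.hom_ext <;> simp [h₁, h₂]
  subst hw
  rw [Φ]

theorem mem_eqLoc_Φ {T : Scheme.{u}} (u₁ u₂ : T ⟶ X') (h : u₁ ≫ f = u₂ ≫ f) (x y : Sec F' u₁) (p : T) :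
    p ∈ eqLoc ((EtDesc.pullSh u₂).obj F') (EtCoh.top T) (Φ F' φ u₁ u₂ h x) (Φ F' φ u₁ u₂ h y) ↔
      p ∈ eqLoc ((EtDesc.pullSh u₁).obj F') (EtCoh.top T) x y := by
  rw [Φ, Φ]
  exact mem_eqLoc_bij _ (fun V => (bijective_datum F' φ _ u₁ u₂ _ _ V).1) (EtCoh.top T) x y p

/-- a section over `U ×_B X'` compatible with the datum -/
def Compat (U : B.Etale) (s : EtDesc.sect F' ((EtCoh.bc f).obj U)) : Prop :=
  ∀ (T : Scheme.{u}) (a b : T ⟶ ((EtCoh.bc f).obj U).left) (u₁ u₂ : T ⟶ X')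
    (ha : a ≫ ((EtCoh.bc f).obj U).hom = u₁) (hb : b ≫ ((EtCoh.bc f).obj U).hom = u₂) (h : u₁ ≫ f = u₂ ≫ f),
    a ≫ pullback.fst U.hom f = b ≫ pullback.fst U.hom f →
      Φ F' φ u₁ u₂ h (pb F' u₁ a ha s) = pb F' u₂ b hb s

/-- the presheaf of compatible sections -/
def desc : Subfunctor ((EtDesc.pushSh f).obj F').obj where
  obj U := {s | Compat F' φ U.unop s}
  map {U U'} i := fun s hs T a b u₁ u₂ ha hb h e => by
    show Φ F' φ u₁ u₂ h (pb F' u₁ a ha (F'.obj.map ((EtCoh.bc f).map i.unop).op s)) =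
      pb F' u₂ b hb (F'.obj.map ((EtCoh.bc f).map i.unop).op s)
    rw [pb_res, pb_res]
    refine hs T _ _ u₁ u₂ _ _ h ?_
    have e' : ∀ c : T ⟶ ((EtCoh.bc f).obj U'.unop).left,
        (c ≫ ((EtCoh.bc f).map i.unop).left) ≫ pullback.fst U.unop.hom f =
          (c ≫ pullback.fst U'.unop.hom f) ≫ i.unop.left := fun c =>
      (Category.assoc _ _ _).trans ((congrArg (c ≫ ·) (bc_map_fst f i.unop)).trans (Category.assoc _ _ _).symm)
    exact (e' a).trans ((congrArg (· ≫ i.unop.left) e).trans (e' b).symm)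

theorem isSheaf_desc : Presheaf.IsSheaf B.smallEtaleTopology (desc F' φ).toFunctor := by
  rw [isSheaf_iff_isSheaf_of_type,
    (desc F' φ).isSheaf_iff ((isSheaf_iff_isSheaf_of_type _ _).1 ((EtDesc.pushSh f).obj F').property)]
  intro U s hs T a b u₁ u₂ ha hb h e
  refine sec_ext F' u₂ _ _ fun p => ?_
  obtain ⟨V, c, hc, ⟨q, hq⟩⟩ := exists_mem_range_of_mem hs ((a ≫ pullback.fst U.unop.hom f) p)
  haveI := etale_left c
  let Q : T.Etale := Scheme.Etale.mk (pullback.fst (a ≫ pullback.fst U.unop.hom f) c.left)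
  obtain ⟨r, hr, -⟩ := Scheme.Pullback.exists_preimage_pullback (f := a ≫ pullback.fst U.unop.hom f) (g := c.left)
    p q hq.symm
  refine ⟨Q, ⟨r, hr⟩, ?_⟩
  have hV : ∀ (d : T ⟶ ((EtCoh.bc f).obj U.unop).left),
      a ≫ pullback.fst U.unop.hom f = d ≫ pullback.fst U.unop.hom f →
      ∃ d' : Q.left ⟶ ((EtCoh.bc f).obj V).left, d' ≫ ((EtCoh.bc f).map c).left = Q.hom ≫ d ∧
        d' ≫ pullback.fst V.hom f = pullback.snd (a ≫ pullback.fst U.unop.hom f) c.left := by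
    intro d hd
    obtain ⟨d', h₁, h₂⟩ : ∃ d', d' ≫ pullback.fst V.hom f = pullback.snd (a ≫ pullback.fst U.unop.hom f) c.left ∧
        d' ≫ ((EtCoh.bc f).map c).left = Q.hom ≫ d :=
      ⟨(EtCoh.isPullback_bc_map f c).flip.lift (pullback.snd _ _) (Q.hom ≫ d)
        (pullback.condition.symm.trans ((congrArg (Q.hom ≫ ·) hd).trans (Category.assoc _ _ _).symm)),
        (EtCoh.isPullback_bc_map f c).flip.lift_fst _ _ _, (EtCoh.isPullback_bc_map f c).flip.lift_snd _ _ _⟩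
    exact ⟨d', h₂, h₁⟩
  obtain ⟨a', ha₁, ha₂⟩ := hV a rfl
  obtain ⟨b', hb₁, hb₂⟩ := hV b e
  have hh : ∀ (d : T ⟶ ((EtCoh.bc f).obj U.unop).left) (d' : Q.left ⟶ ((EtCoh.bc f).obj V).left) (w : T ⟶ X'),
      d' ≫ ((EtCoh.bc f).map c).left = Q.hom ≫ d → d ≫ ((EtCoh.bc f).obj U.unop).hom = w →
      d' ≫ ((EtCoh.bc f).obj V).hom = Q.hom ≫ w := fun d d' w h₁ h₂ => by
    rw [← h₂]
    exact (congrArg (d' ≫ ·) (MorphismProperty.Over.w ((EtCoh.bc f).map c))).symm.trans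
      ((Category.assoc _ _ _).symm.trans ((congrArg (· ≫ _) h₁).trans (Category.assoc _ _ _)))
  have h' : (Q.hom ≫ u₁) ≫ f = (Q.hom ≫ u₂) ≫ f := by rw [Category.assoc, Category.assoc, h]
  have key := hc Q.left a' b' (Q.hom ≫ u₁) (Q.hom ≫ u₂) (hh a a' u₁ ha₁ ha) (hh b b' u₂ hb₁ hb) h'
    (ha₂.trans hb₂.symm)
  change Φ F' φ _ _ h' (pb F' _ a' _ (F'.obj.map ((EtCoh.bc f).map c).op s)) =
    pb F' _ b' _ (F'.obj.map ((EtCoh.bc f).map c).op s) at key
  rw [pb_res, pb_res, pb_congr F' _ ha₁, pb_congr F' _ hb₁] at key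
  rw [res_Φ F' φ Q.hom u₁ u₂ h (Q.hom ≫ u₁) (Q.hom ≫ u₂) rfl rfl, res_pb, res_pb]
  exact key

/-- the descended sheaf -/
def descSh : EtDesc.Sh B := ⟨(desc F' φ).toFunctor, isSheaf_desc F' φ⟩

/-- its inclusion in the direct image -/
def descInc : descSh F' φ ⟶ (EtDesc.pushSh f).obj F' := ObjectProperty.homMk (desc F' φ).ι

/-- the comparison morphism -/
def descHom : (EtDesc.pullSh f).obj (descSh F' φ) ⟶ F' :=
  ((EtDesc.adjSh f).homEquiv _ _).symm (descInc F' φ)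

theorem descHom_unit (U : B.Etale) (s : EtDesc.sect (descSh F' φ) U) :
    appH (descHom F' φ) ((EtCoh.bc f).obj U) (unitSect f (descSh F' φ) U s) = s.1 := by
  have h : ((EtDesc.adjSh f).homEquiv _ _) (descHom F' φ) = descInc F' φ := Equiv.apply_symm_apply _ _
  rw [Adjunction.homEquiv_unit] at h
  exact congrArg (fun k : descSh F' φ ⟶ (EtDesc.pushSh f).obj F' => k.hom.app (op U) s) h

theorem descHom_ru {V : X'.Etale} {U : B.Etale} (δ : V ⟶ (EtCoh.bc f).obj U) (s : EtDesc.sect (descSh F' φ) U) :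
    appH (descHom F' φ) V (ru f (descSh F' φ) δ s) = F'.obj.map δ.op s.1 := by
  rw [ru, ← map_appH, descHom_unit]

/-- the locus of agreement of two compatible sections is saturated -/
theorem mem_eqLoc_desc (U : B.Etale) (s s' : EtDesc.sect (descSh F' φ) U)
    (hsub : ∀ (Y : Scheme.{u}) (t : Y ⟶ B), Topology.IsQuotientMap (pullback.snd f t))
    (x : ((EtCoh.bc f).obj U).left) (hx : x ∈ eqLoc F' ((EtCoh.bc f).obj U) s.1 s'.1) :
    pullback.fst U.hom f x ∈ eqLoc (descSh F' φ) U s s' := by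
  let U' := (EtCoh.bc f).obj U
  let q : U'.left ⟶ U.left := pullback.fst U.hom f
  let E := eqLoc F' U' s.1 s'.1
  have hsat : q ⁻¹' (q '' E) = E := by
    refine Set.Subset.antisymm ?_ (Set.subset_preimage_image _ _)
    rintro z ⟨z₀, hz₀, hzz⟩
    obtain ⟨r, hr₁, hr₂⟩ := Scheme.Pullback.exists_preimage_pullback (f := q) (g := q) z₀ z hzz
    let a := pullback.fst q q
    let b := pullback.snd q q
    have h : (a ≫ U'.hom) ≫ f = (b ≫ U'.hom) ≫ f := by
      have e : U'.hom ≫ f = q ≫ U.hom := pullback.condition.symm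
      rw [Category.assoc, Category.assoc, e, ← Category.assoc, pullback.condition, Category.assoc]
    have h₁ := s.2 _ a b _ _ rfl rfl h pullback.condition
    have h₂ := s'.2 _ a b _ _ rfl rfl h pullback.condition
    rw [← hr₂]
    refine (mem_eqLoc_pb F' _ b rfl s.1 s'.1 r).mp ?_
    rw [← h₁, ← h₂]
    refine (mem_eqLoc_Φ F' φ _ _ h _ _ r).mpr ?_
    refine (mem_eqLoc_pb F' _ a rfl s.1 s'.1 r).mpr ?_
    rw [hr₁]
    exact hz₀
  have hO : IsOpen (q '' E) := by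
    refine (hsub U.left U.hom).isOpen_preimage.mp ?_
    have e : pullback.snd f U.hom = (pullbackSymmetry f U.hom).hom ≫ q := (pullbackSymmetry_hom_comp_fst _ _).symm
    have hpre : (pullback.snd f U.hom : _ → U.left) ⁻¹' (q '' E) =
        (pullbackSymmetry f U.hom).hom ⁻¹' (q ⁻¹' (q '' E)) := by rw [e]; rfl
    refine (congrArg IsOpen (hpre.trans (congrArg _ hsat))).mpr ?_
    exact (isOpen_eqLoc _ _).preimage (pullbackSymmetry f U.hom).hom.continuous
  let O : U.left.Opens := ⟨_, hO⟩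
  haveI := U.prop
  let W : B.Etale := Scheme.Etale.mk (O.ι ≫ U.hom)
  let c : W ⟶ U := MorphismProperty.Over.homMk O.ι rfl
  refine ⟨W, c, (Scheme.Opens.range_ι O).ge (⟨x, hx, rfl⟩ : q x ∈ q '' E), Subtype.ext ?_⟩
  show F'.obj.map ((EtCoh.bc f).map c).op s.1 = F'.obj.map ((EtCoh.bc f).map c).op s'.1
  refine eq_of_eqLoc fun p => ?_
  rw [eqLoc_map]
  refine hsat.le ?_
  show q (((EtCoh.bc f).map c).left p) ∈ q '' E
  rw [← Scheme.Hom.comp_apply, show ((EtCoh.bc f).map c).left ≫ q = pullback.fst W.hom f ≫ O.ι from bc_map_fst f c,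
    Scheme.Hom.comp_apply]
  exact (Scheme.Opens.range_ι O).le ⟨_, rfl⟩

theorem injective_descHom (hsub : ∀ (Y : Scheme.{u}) (t : Y ⟶ B), Topology.IsQuotientMap (pullback.snd f t))
    (V : X'.Etale) : Function.Injective (appH (descHom F' φ) V) := by
  intro x y hxy
  refine eq_of_eqLoc fun p => ?_
  obtain ⟨W, a, o, ε, σ, ⟨w, hw⟩, hx⟩ := exists_rep (descSh F' φ) f x p
  obtain ⟨W', a', o', ε', σ', ⟨w', hw'⟩, hy⟩ :=
    exists_rep (descSh F' φ) f (((EtDesc.pullSh f).obj (descSh F' φ)).obj.map a.op y) w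
  rw [map_map] at hy
  have hx' : ((EtDesc.pullSh f).obj (descSh F' φ)).obj.map (a' ≫ a).op x = ru f (descSh F' φ) (a' ≫ ε) σ := by
    rw [← map_map, hx, map_ru]
  haveI := o.prop
  haveI := o'.prop
  let P : B.Etale := Scheme.Etale.mk (pullback.fst o.hom o'.hom ≫ o.hom)
  let c : P ⟶ o := MorphismProperty.Over.homMk (pullback.fst o.hom o'.hom) rfl
  let c' : P ⟶ o' := MorphismProperty.Over.homMk (pullback.snd o.hom o'.hom) pullback.condition.symm
  let m₁ := (a' ≫ ε).left ≫ pullback.fst o.hom f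
  let m₂ := ε'.left ≫ pullback.fst o'.hom f
  have hm₁ : m₁ ≫ o.hom = W'.hom ≫ f := bc_w f (a' ≫ ε)
  have hm₂ : m₂ ≫ o'.hom = W'.hom ≫ f := bc_w f ε'
  let δ : W' ⟶ (EtCoh.bc f).obj P := mkδ f (pullback.lift m₁ m₂ (hm₁.trans hm₂.symm)) (by
    show _ ≫ pullback.fst o.hom o'.hom ≫ o.hom = _
    rw [← Category.assoc, pullback.lift_fst]
    exact hm₁)
  have e₁ : a' ≫ ε = δ ≫ (EtCoh.bc f).map c := bc_ext f (by
    rw [comp_map_fst, mkδ_fst]
    exact (pullback.lift_fst _ _ _).symm)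
  have e₂ : ε' = δ ≫ (EtCoh.bc f).map c' := bc_ext f (by
    rw [comp_map_fst, mkδ_fst]
    exact (pullback.lift_snd _ _ _).symm)
  rw [e₁, ← ru_res] at hx'
  rw [e₂, ← ru_res] at hy
  refine ⟨_, a' ≫ a, ⟨w', ?_⟩, ?_⟩
  · exact (Scheme.Hom.comp_apply a'.left a.left w').trans ((congrArg a.left hw').trans hw)
  · rw [hx', hy]
    refine eq_of_eqLoc fun q => (mem_eqLoc_ru f (descSh F' φ) δ _ _ q).mpr ?_
    rw [Scheme.Hom.comp_apply]
    refine mem_eqLoc_desc F' φ P _ _ hsub _ ?_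
    have h := congrArg (fun z => F'.obj.map (a' ≫ a).op z) hxy
    rw [map_appH, map_appH, hx', hy, descHom_ru, descHom_ru] at h
    have hq : q ∈ eqLoc F' W' (F'.obj.map δ.op ((descSh F' φ).obj.map c.op σ).1)
        (F'.obj.map δ.op ((descSh F' φ).obj.map c'.op σ').1) := by rw [h, eqLoc_self]; trivial
    rw [eqLoc_map] at hq
    exact hq

/-- **effectivity criterion**: every section of `F'` comes locally from a compatible section -/
theorem isEffective_of_local (hφ : EtDesc.IsCocycle F' φ)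
    (hsub : ∀ (Y : Scheme.{u}) (t : Y ⟶ B), Topology.IsQuotientMap (pullback.snd f t))
    (hloc : ∀ (V : X'.Etale) (t : EtDesc.sect F' V) (v : V.left), ∃ (U : B.Etale)
      (s : EtDesc.sect F' ((EtCoh.bc f).obj U)) (W : X'.Etale) (a : W ⟶ V) (b : W ⟶ (EtCoh.bc f).obj U),
      Compat F' φ U s ∧ v ∈ Set.range a.left ∧ F'.obj.map b.op s = F'.obj.map a.op t) :
    EtDesc.IsEffective f F' φ := by
  haveI h1 : Sheaf.IsLocallyInjective (descHom F' φ) :=
    Presheaf.isLocallyInjective_of_injective _ _ fun V => injective_descHom F' φ hsub V.unop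
  haveI h2 : Sheaf.IsLocallySurjective (descHom F' φ) := ⟨fun {V} t => by
    choose U s W a b hs hv ht using hloc V t
    have hcov : Sieve.ofArrows W a ∈ X'.smallEtaleTopology V := by
      rw [Scheme.ofArrows_mem_smallEtaleTopology_iff]
      exact Set.eq_univ_of_forall fun v => Set.mem_iUnion.mpr ⟨v, hv v⟩
    refine X'.smallEtaleTopology.superset_covering ?_ hcov
    rintro Z g ⟨_, c, _, ⟨v⟩, rfl⟩
    refine (Presheaf.imageSieve _ _).downward_closed ?_ c
    exact ⟨ru f (descSh F' φ) (b v) (⟨s v, hs v⟩ : EtDesc.sect (descSh F' φ) (U v)),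
      (descHom_ru F' φ (b v) _).trans (ht v)⟩⟩
  haveI : IsIso (descHom F' φ) := (Sheaf.isLocallyBijective_iff_isIso _).mp ⟨h1, h2⟩
  refine ⟨descSh F' φ, asIso (descHom F' φ), Iso.ext ?_⟩
  simp only [Iso.trans_hom, Iso.symm_hom, Functor.mapIso_hom, Functor.mapIso_inv, asIso_hom, asIso_inv]
  rw [Functor.map_inv, IsIso.inv_comp_eq]
  let p₁ := pullback.fst f f
  let p₂ := pullback.snd f f
  let k := p₁ ≫ f
  let e := EtDesc.pullVia p₁ f k rfl (descSh F' φ)
  rw [← cancel_epi e.inv]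
  refine hom_ext k fun U s => ?_
  let T := (EtCoh.bc k).obj U
  let V := (EtCoh.bc f).obj U
  let m₁ : T.left ⟶ V.left := pullback.lift (pullback.fst U.hom k) (T.hom ≫ p₁) (by
    rw [Category.assoc]; exact pullback.condition)
  let m₂ : T.left ⟶ V.left := pullback.lift (pullback.fst U.hom k) (T.hom ≫ p₂) (by
    rw [Category.assoc, show p₂ ≫ f = k from pullback.condition.symm]; exact pullback.condition)
  have hm₁ : m₁ ≫ V.hom = T.hom ≫ p₁ := pullback.lift_snd _ _ _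
  have hm₂ : m₂ ≫ V.hom = T.hom ≫ p₂ := pullback.lift_snd _ _ _
  let δ₁ : T ⟶ (EtCoh.bc p₁).obj V := mkδ _ m₁ hm₁
  let δ₂ : T ⟶ (EtCoh.bc p₂).obj V := mkδ _ m₂ hm₂
  have h₁ : δ₁.left ≫ pullback.fst V.hom p₁ = m₁ := mkδ_fst _ _ _
  have h₂ : δ₂.left ≫ pullback.fst V.hom p₂ = m₂ := mkδ_fst _ _ _
  have h0 : appH e.inv T (unitSect k (descSh F' φ) U s) = ru p₁ _ δ₁ (unitSect f (descSh F' φ) U s) := by
    have hh : tr (descSh F' φ) p₁ f k rfl δ₁ (unitSect f (descSh F' φ) U s) = unitSect k (descSh F' φ) U s := by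
      rw [show unitSect f (descSh F' φ) U s = ru f (descSh F' φ) (𝟙 _) s by simp [ru],
        show unitSect k (descSh F' φ) U s = ru k (descSh F' φ) (𝟙 _) s by simp [ru]]
      refine tr_ru (descSh F' φ) p₁ f k rfl δ₁ (𝟙 _) (𝟙 _) ?_ s
      exact ((congrArg (fun z => z ≫ _) h₁).trans ((congrArg (m₁ ≫ ·) (Category.id_comp _)).trans
        (pullback.lift_fst _ _ _))).trans (Category.id_comp _).symm
    rw [← hh, tr]
    exact appH_hom_inv e T _
  rw [← appH_def, ← appH_def, appH_comp, appH_comp, appH_comp, appH_comp, h0, appH_ru, descHom_unit,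
    appH_canIso_unit (descSh F' φ) U s δ₁ δ₂ (𝟙 T)
      (((congrArg (fun z => z ≫ _) h₁).trans (pullback.lift_fst _ _ _)).trans (Category.id_comp _).symm)
      (((congrArg (fun z => z ≫ _) h₂).trans (pullback.lift_fst _ _ _)).trans (Category.id_comp _).symm),
    appH_ru, descHom_unit]
  apply (bijective_toSec F' p₂ T (T.hom ≫ p₂) rfl).1
  rw [toSec_ru, toSec, ← datum_tr_fst F' φ T.hom (T.hom ≫ p₁) (T.hom ≫ p₂) rfl rfl (δdiag T), ← toSec,
    toSec_ru]
  refine Eq.trans ?_ (datum_eq_Φ F' φ T.hom (T.hom ≫ p₁) (T.hom ≫ p₂) rfl rfl _).symm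
  have hmm : (δ₁.left ≫ pullback.fst V.hom p₁) ≫ pullback.fst U.hom f =
      (δ₂.left ≫ pullback.fst V.hom p₂) ≫ pullback.fst U.hom f :=
    (congrArg (fun z => z ≫ _) h₁).trans ((pullback.lift_fst _ _ _).trans
      ((pullback.lift_fst _ _ _).symm.trans (congrArg (fun z => z ≫ pullback.fst U.hom f) h₂).symm))
  exact (s.2 T.left _ _ _ _ (bc_w p₁ δ₁) (bc_w p₂ δ₂) _ hmm).symm

end Groth.Agent.EtShDesc
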