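import Groth.Agent.EtShDesc.Charts
import Groth.Agent.SlicePt.Nhd
import Mathlib

/-! Effective descent along fppf morphisms, by finite quasi-sections over étale neighbourhoods. -/

set_option autoImplicit false
set_option backward.isDefEq.respectTransparency false
set_option backward.isDefEq.respectTransparency.types false
set_option linter.style.haveILetI false
set_option maxHeartbeats 1000000

universe u

open CategoryTheory CategoryTheory.Limits AlgebraicGeometry Opposite

noncomputable section

namespace Groth.Agent.EtShDesc

open Groth.Agent.EtShLib Groth.Agent.EtShSep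

/-- effective descent along flat morphisms locally of finite presentation -/
theorem isEffective_fppf {B X' : Scheme.{u}} (f : X' ⟶ B) [Surjective f] [Flat f] [LocallyOfFinitePresentation f]
    (F' : EtDesc.Sh X') (φ : (EtDesc.pullSh (pullback.fst f f)).obj F' ≅ (EtDesc.pullSh (pullback.snd f f)).obj F')
    (hφ : EtDesc.IsCocycle F' φ) : EtDesc.IsEffective f F' φ := by
  haveI : UniversallyOpen f := inferInstance
  refine isEffective_of_local F' φ hφ (uq_of_open f) fun V t v => ?_
  haveI : UniversallyOpen ((⊤ : X'.Opens).ι ≫ f) := inferInstance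
  obtain ⟨S', S'', w, π, h, -, _, _, _, -, hh, s₀, -, hs₀, -⟩ :=
    Groth.Agent.SlicePt.exists_quasiSection_nhd f ⊤ (f (V.hom v)) ⟨V.hom v, trivial, rfl⟩
  have hv : f (V.hom v) ∈ Set.range w :=
    ⟨π s₀, (Scheme.Hom.comp_apply π w s₀).symm.trans (hs₀.ge (Set.mem_singleton s₀))⟩
  exact exists_desc_chart F' φ hφ w π h hh (uq_of_closed π)
    (isIso_baseChange0Sh_integral π _ _ _ (IsPullback.of_hasPullback π _) _)
    (isIso_baseChange0Sh_integral (pullback.fst π π ≫ π) _ _ _ (IsPullback.of_hasPullback _ _) _) V t v hv

end Groth.Agent.EtShDesc
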