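import Groth.Agent.EtShDesc.Effective
import Groth.Agent.EtShDesc.BC

/-!
Effective descent from charts over the base.
-/

set_option autoImplicit false
set_option backward.isDefEq.respectTransparency false
set_option backward.isDefEq.respectTransparency.types false
set_option maxHeartbeats 1000000
set_option linter.style.haveILetI false
set_option linter.unusedSectionVars false

universe u

open CategoryTheory CategoryTheory.Limits AlgebraicGeometry Opposite

noncomputable section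

namespace Groth.Agent.EtShDesc

open Groth.Agent.EtShLib Groth.Agent.EtShSep

/-- universally quotient maps are stable under base change -/
theorem univQuot_of_isPullback {X B W V : Scheme.{u}} {f : X ⟶ B}
    (hf : ∀ (Y : Scheme.{u}) (t : Y ⟶ B), Topology.IsQuotientMap (pullback.snd f t)) {t : W ⟶ X} {g : W ⟶ V}
    {j : V ⟶ B} (hP : IsPullback t g f j) (Y : Scheme.{u}) (r : Y ⟶ V) :
    Topology.IsQuotientMap (pullback.snd g r) := by
  have h := (IsPullback.of_hasPullback g r).paste_horiz hP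
  rw [← h.isoPullback_hom_snd]
  exact (hf Y (r ≫ j)).comp h.isoPullback.hom.homeomorph.isQuotientMap

section Sections

variable {X : Scheme.{u}} (F : EtDesc.Sh X) {O W A : Scheme.{u}} (q : W ⟶ O) (j : W ⟶ X) (r : A ⟶ O)

theorem exists_sec_preimage
    [IsIso (EtBC.baseChange0Sh q r (pullback.snd q r) (pullback.fst q r) pullback.condition ((EtDesc.pullSh j).obj F))]
    (A' : A.Etale) (T : Sec F ((pullback.snd A'.hom (pullback.snd q r) ≫ pullback.fst q r) ≫ j)) (a : A'.left) :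
    ∃ (A₁ : A.Etale) (c : A₁ ⟶ A') (U : O.Etale) (m : A₁.left ⟶ U.left) (hm : m ≫ U.hom = A₁.hom ≫ r)
      (σ : Sec F (((EtCoh.bc q).obj U).hom ≫ j)), a ∈ Set.range c.left ∧
      ∀ (Z : Scheme.{u}) (z₁ : Z ⟶ A₁.left) (z₂ : Z ⟶ pullback q r) (h : z₁ ≫ A₁.hom = z₂ ≫ pullback.snd q r)
        (d : Z ⟶ ((EtCoh.bc (pullback.snd q r)).obj A').left) (_ : d ≫ pullback.fst A'.hom (pullback.snd q r) = z₁ ≫ c.left)
        (hd : d ≫ pullback.snd A'.hom (pullback.snd q r) = z₂),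
        res F d ((pullback.snd A'.hom (pullback.snd q r) ≫ pullback.fst q r) ≫ j) ((z₂ ≫ pullback.fst q r) ≫ j)
          (by rw [← hd, Category.assoc, Category.assoc, Category.assoc]) T =
        res F (nMap q r m hm z₁ z₂ h) (((EtCoh.bc q).obj U).hom ≫ j) ((z₂ ≫ pullback.fst q r) ≫ j)
          (by rw [← Category.assoc, nMap_snd]) σ := by
  obtain ⟨T₀, rfl⟩ := (bijective_conv F j (pullback.snd A'.hom (pullback.snd q r) ≫ pullback.fst q r) _ rfl).2 T
  obtain ⟨A₁, c, U, m, hm, s, ha, hs⟩ := exists_bc_preimage q r ((EtDesc.pullSh j).obj F) A' T₀ a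
  refine ⟨A₁, c, U, m, hm, toSec F j ((EtCoh.bc q).obj U) _ rfl s, ha, fun Z z₁ z₂ h d hd₁ hd₂ => ?_⟩
  have hd : d = pullback.lift (z₁ ≫ c.left) z₂ (by
      rw [Category.assoc]; exact (congrArg (z₁ ≫ ·) (MorphismProperty.Over.w c)).trans h) :=
    pullback.hom_ext (hd₁.trans (pullback.lift_fst _ _ _).symm) (hd₂.trans (pullback.lift_snd _ _ _).symm)
  subst hd
  rw [← conv_res F j _ _ (z₂ ≫ pullback.fst q r) (by rw [← Category.assoc, pullback.lift_snd]) _ rfl _ rfl T₀,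
    hs Z z₁ z₂ h, conv_pb F j _ _ rfl _ _ _ rfl]

theorem exists_agree
    [IsIso (EtBC.baseChange0Sh q r (pullback.snd q r) (pullback.fst q r) pullback.condition ((EtDesc.pullSh j).obj F))]
    {A₁ : A.Etale} {U : O.Etale} (m : A₁.left ⟶ U.left) (hm : m ≫ U.hom = A₁.hom ≫ r)
    (σ σ' : Sec F (((EtCoh.bc q).obj U).hom ≫ j)) (v : ((EtCoh.bc (pullback.snd q r)).obj A₁).left ⟶ X)
    (hv : nMap q r m hm (pullback.fst A₁.hom (pullback.snd q r)) (pullback.snd A₁.hom (pullback.snd q r))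
          pullback.condition ≫ ((EtCoh.bc q).obj U).hom ≫ j = v)
    (h : res F (nMap q r m hm (pullback.fst A₁.hom (pullback.snd q r)) (pullback.snd A₁.hom (pullback.snd q r))
          pullback.condition) _ v hv σ =
        res F (nMap q r m hm (pullback.fst A₁.hom (pullback.snd q r)) (pullback.snd A₁.hom (pullback.snd q r))
          pullback.condition) _ v hv σ') (a : A₁.left) :
    ∃ (U₁ : O.Etale) (c : U₁ ⟶ U), m a ∈ Set.range c.left ∧
      res F ((EtCoh.bc q).map c).left _ (((EtCoh.bc q).obj U₁).hom ≫ j)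
          (by rw [← Category.assoc]; exact congrArg (· ≫ j) (MorphismProperty.Over.w ((EtCoh.bc q).map c))) σ =
        res F ((EtCoh.bc q).map c).left _ (((EtCoh.bc q).obj U₁).hom ≫ j)
          (by rw [← Category.assoc]; exact congrArg (· ≫ j) (MorphismProperty.Over.w ((EtCoh.bc q).map c))) σ' := by
  obtain ⟨s, rfl⟩ := (bijective_toSec F j ((EtCoh.bc q).obj U) _ rfl).2 σ
  obtain ⟨s', rfl⟩ := (bijective_toSec F j ((EtCoh.bc q).obj U) _ rfl).2 σ'
  have hv' : (pullback.snd A₁.hom (pullback.snd q r) ≫ pullback.fst q r) ≫ j = v := by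
    rw [← hv, ← Category.assoc, nMap_snd]
  rw [← conv_pb F j (pullback.snd A₁.hom (pullback.snd q r) ≫ pullback.fst q r) v hv' _ (nMap_snd q r m hm _ _ _) _ rfl s,
    ← conv_pb F j (pullback.snd A₁.hom (pullback.snd q r) ≫ pullback.fst q r) v hv' _ (nMap_snd q r m hm _ _ _) _ rfl s'] at h
  obtain ⟨U₁, c, hc, e⟩ := mem_eqLoc_of_bc q r ((EtDesc.pullSh j).obj F) m hm s s' ((bijective_conv F j _ v hv').1 h) a
  refine ⟨U₁, c, hc, ?_⟩
  rw [← toSec_map F j ((EtCoh.bc q).map c) _ rfl _ rfl s, ← toSec_map F j ((EtCoh.bc q).map c) _ rfl _ rfl s', e]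

end Sections

section Chart

variable {B X' : Scheme.{u}} {f : X' ⟶ B} (F' : EtDesc.Sh X')
  (φ : (EtDesc.pullSh (pullback.fst f f)).obj F' ≅ (EtDesc.pullSh (pullback.snd f f)).obj F')
  (hφ : EtDesc.IsCocycle F' φ) {O : Scheme.{u}} (ι : O ⟶ B) [AlgebraicGeometry.Etale ι] {W : Scheme.{u}} (q : W ⟶ O) (j : W ⟶ X')
  (hj : j ≫ f = q ≫ ι)

include hφ hj in
/-- the candidate sections over the chart -/
theorem exists_compat_chart
    (hBC : IsIso (EtBC.baseChange0Sh q (pullback.snd f ι) (pullback.snd q (pullback.snd f ι))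
      (pullback.fst q (pullback.snd f ι)) pullback.condition ((EtDesc.pullSh j).obj F')))
    (hBC₂ : IsIso (EtBC.baseChange0Sh (pullback.fst q q ≫ q) (pullback.snd f ι)
      (pullback.snd (pullback.fst q q ≫ q) (pullback.snd f ι))
      (pullback.fst (pullback.fst q q ≫ q) (pullback.snd f ι)) pullback.condition
      ((EtDesc.pullSh (pullback.snd q q ≫ j)).obj F')))
    (V : X'.Etale) (t : EtDesc.sect F' V) (v : V.left) (hv : f (V.hom v) ∈ Set.range ι) :
    ∃ (A₁ : (pullback f ι).Etale) (i : A₁.left ⟶ V.left) (U : O.Etale) (m : A₁.left ⟶ U.left)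
      (hm : m ≫ U.hom = A₁.hom ≫ pullback.snd f ι) (σ : Sec F' (((EtCoh.bc q).obj U).hom ≫ j)),
      i ≫ V.hom = A₁.hom ≫ pullback.fst f ι ∧ v ∈ Set.range i ∧
      (∀ (Z : Scheme.{u}) (n₁ n₂ : Z ⟶ ((EtCoh.bc q).obj U).left) (u₁ u₂ : Z ⟶ X')
        (h₁ : n₁ ≫ ((EtCoh.bc q).obj U).hom ≫ j = u₁) (h₂ : n₂ ≫ ((EtCoh.bc q).obj U).hom ≫ j = u₂)
        (h : u₁ ≫ f = u₂ ≫ f), n₁ ≫ pullback.fst U.hom q = n₂ ≫ pullback.fst U.hom q →
          Φ F' φ u₁ u₂ h (res F' n₁ _ u₁ h₁ σ) = res F' n₂ _ u₂ h₂ σ) ∧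
      ∀ (Z : Scheme.{u}) (z₁ : Z ⟶ A₁.left) (z₂ : Z ⟶ pullback q (pullback.snd f ι))
        (hz : z₁ ≫ A₁.hom = z₂ ≫ pullback.snd q (pullback.snd f ι)) (u₁ u₂ : Z ⟶ X')
        (h₁ : (z₁ ≫ i) ≫ V.hom = u₁)
        (h₂ : nMap q (pullback.snd f ι) m hm z₁ z₂ hz ≫ ((EtCoh.bc q).obj U).hom ≫ j = u₂)
        (h : u₁ ≫ f = u₂ ≫ f),
          Φ F' φ u₁ u₂ h (pb F' u₁ (z₁ ≫ i) h₁ t) =
            res F' (nMap q (pullback.snd f ι) m hm z₁ z₂ hz) _ u₂ h₂ σ := by
  let r : pullback f ι ⟶ O := pullback.snd f ι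
  let A' : (pullback f ι).Etale := (EtCoh.bc (pullback.fst f ι)).obj V
  let i₀ : A'.left ⟶ V.left := pullback.fst V.hom (pullback.fst f ι)
  have hi₀ : i₀ ≫ V.hom = A'.hom ≫ pullback.fst f ι := pullback.condition
  obtain ⟨o, ho⟩ := hv
  obtain ⟨p, hp, -⟩ := Scheme.Pullback.exists_preimage_pullback (f := f) (g := ι) (V.hom v) o ho.symm
  obtain ⟨a, ha, -⟩ := Scheme.Pullback.exists_preimage_pullback (f := V.hom) (g := pullback.fst f ι) v p hp.symm
  let pP := pullback.snd A'.hom (pullback.snd q r)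
  have hu : (pullback.fst A'.hom (pullback.snd q r) ≫ A'.hom ≫ pullback.fst f ι) ≫ f =
      ((pP ≫ pullback.fst q r) ≫ j) ≫ f := by
    rw [Category.assoc _ j f, hj, Category.assoc pP, ← Category.assoc (pullback.fst q r), pullback.condition,
      Category.assoc, Category.assoc, Category.assoc, ← Category.assoc pP, ← pullback.condition]
    simp only [Category.assoc]
    rw [pullback.condition (f := f) (g := ι)]
  let T : Sec F' ((pP ≫ pullback.fst q r) ≫ j) := Φ F' φ _ _ hu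
    (pb F' _ (pullback.fst A'.hom (pullback.snd q r) ≫ i₀) (by rw [Category.assoc, hi₀]) t)
  obtain ⟨A₁, c, U, m, hm, σ, hac, hσ⟩ := exists_sec_preimage F' q j r A' T a
  have key : ∀ (Z : Scheme.{u}) (z₁ : Z ⟶ A₁.left) (z₂ : Z ⟶ pullback q r)
      (hz : z₁ ≫ A₁.hom = z₂ ≫ pullback.snd q r) (u₁ u₂ : Z ⟶ X') (h₁ : (z₁ ≫ c.left ≫ i₀) ≫ V.hom = u₁)
      (h₂ : nMap q r m hm z₁ z₂ hz ≫ ((EtCoh.bc q).obj U).hom ≫ j = u₂) (h : u₁ ≫ f = u₂ ≫ f),
      Φ F' φ u₁ u₂ h (pb F' u₁ (z₁ ≫ c.left ≫ i₀) h₁ t) = res F' (nMap q r m hm z₁ z₂ hz) _ u₂ h₂ σ := by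
    intro Z z₁ z₂ hz u₁ u₂ h₁ h₂ h
    let d : Z ⟶ ((EtCoh.bc (pullback.snd q r)).obj A').left := pullback.lift (z₁ ≫ c.left) z₂ (by
      rw [Category.assoc]; exact (congrArg (z₁ ≫ ·) (MorphismProperty.Over.w c)).trans hz)
    have hd₁ : d ≫ pullback.fst A'.hom (pullback.snd q r) = z₁ ≫ c.left := pullback.lift_fst _ _ _
    have hd₂ : d ≫ pP = z₂ := pullback.lift_snd _ _ _
    have hu₂ : u₂ = (z₂ ≫ pullback.fst q r) ≫ j := by rw [← h₂, ← Category.assoc, nMap_snd]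
    subst hu₂
    have e : d ≫ pullback.fst A'.hom (pullback.snd q r) ≫ A'.hom ≫ pullback.fst f ι = u₁ := by
      rw [← h₁, ← hi₀, ← Category.assoc d, hd₁, Category.assoc, Category.assoc, Category.assoc]
    refine Eq.trans ?_ (hσ Z z₁ z₂ hz d hd₁ hd₂)
    simp only [T]
    rw [res_Φ F' φ d _ _ hu u₁ _ e, res_pb]
    refine congrArg (Φ F' φ _ _ _) (pb_congr F' _ ?_ _ t)
    rw [← Category.assoc d, hd₁, Category.assoc]
  let q₂ := pullback.fst q q ≫ q
  let j₂ := pullback.snd q q ≫ j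
  let U₂ := (EtCoh.bc q₂).obj U
  let UW := (EtCoh.bc q).obj U
  let π₁ : U₂.left ⟶ UW.left := pullback.lift (pullback.fst U.hom q₂) (pullback.snd U.hom q₂ ≫ pullback.fst q q)
    (by rw [Category.assoc]; exact pullback.condition)
  let π₂ : U₂.left ⟶ UW.left := pullback.lift (pullback.fst U.hom q₂) (pullback.snd U.hom q₂ ≫ pullback.snd q q)
    (by rw [Category.assoc, ← pullback.condition (f := q) (g := q)]; exact pullback.condition)
  have hπ₁ : π₁ ≫ UW.hom = U₂.hom ≫ pullback.fst q q := pullback.lift_snd _ _ _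
  have hπ₂ : π₂ ≫ UW.hom = U₂.hom ≫ pullback.snd q q := pullback.lift_snd _ _ _
  have hππ : (π₁ ≫ UW.hom ≫ j) ≫ f = (U₂.hom ≫ j₂) ≫ f := by
    simp only [j₂]
    rw [← Category.assoc π₁, hπ₁]
    simp only [Category.assoc, hj]
    rw [pullback.condition_assoc]
  let σ₁ : Sec F' (U₂.hom ≫ j₂) := Φ F' φ _ _ hππ (res F' π₁ _ (π₁ ≫ UW.hom ≫ j) rfl σ)
  let σ₂ : Sec F' (U₂.hom ≫ j₂) := res F' π₂ _ _ (by
    simp only [j₂]; rw [← Category.assoc, hπ₂, Category.assoc]) σ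
  let zA := pullback.fst A₁.hom (pullback.snd q₂ r)
  let zP := pullback.snd A₁.hom (pullback.snd q₂ r)
  let n₂ := nMap q₂ r m hm zA zP pullback.condition
  let z' : ((EtCoh.bc (pullback.snd q₂ r)).obj A₁).left ⟶ pullback q r := pullback.lift
    (zP ≫ pullback.fst q₂ r ≫ pullback.fst q q) (zP ≫ pullback.snd q₂ r) (by
      simp only [Category.assoc]
      exact congrArg (zP ≫ ·) pullback.condition)
  let z'' : ((EtCoh.bc (pullback.snd q₂ r)).obj A₁).left ⟶ pullback q r := pullback.lift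
    (zP ≫ pullback.fst q₂ r ≫ pullback.snd q q) (zP ≫ pullback.snd q₂ r) (by
      simp only [Category.assoc]
      rw [← pullback.condition (f := q) (g := q)]
      exact congrArg (zP ≫ ·) pullback.condition)
  have hz' : zA ≫ A₁.hom = z' ≫ pullback.snd q r := by rw [pullback.lift_snd]; exact pullback.condition
  have hz'' : zA ≫ A₁.hom = z'' ≫ pullback.snd q r := by rw [pullback.lift_snd]; exact pullback.condition
  have hn₁ : n₂ ≫ π₁ = nMap q r m hm zA z' hz' := by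
    apply pullback.hom_ext
    · rw [Category.assoc, pullback.lift_fst, nMap_fst, nMap_fst]
    · rw [Category.assoc, pullback.lift_snd]
      refine Eq.trans ?_ (nMap_snd q r m hm zA z' hz').symm
      rw [pullback.lift_fst, ← Category.assoc]
      exact (congrArg (· ≫ pullback.fst q q) (nMap_snd q₂ r m hm zA zP pullback.condition)).trans (Category.assoc _ _ _)
  have hn₂ : n₂ ≫ π₂ = nMap q r m hm zA z'' hz'' := by
    apply pullback.hom_ext
    · rw [Category.assoc, pullback.lift_fst, nMap_fst, nMap_fst]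
    · rw [Category.assoc, pullback.lift_snd]
      refine Eq.trans ?_ (nMap_snd q r m hm zA z'' hz'').symm
      rw [pullback.lift_fst, ← Category.assoc]
      exact (congrArg (· ≫ pullback.snd q q) (nMap_snd q₂ r m hm zA zP pullback.condition)).trans (Category.assoc _ _ _)
  have hagree : res F' n₂ _ (n₂ ≫ U₂.hom ≫ j₂) rfl σ₁ = res F' n₂ _ (n₂ ≫ U₂.hom ≫ j₂) rfl σ₂ := by
    have hA : (zA ≫ c.left ≫ i₀) ≫ V.hom = zA ≫ A₁.hom ≫ pullback.fst f ι := by
      simp only [Category.assoc, hi₀]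
      exact congrArg (zA ≫ ·) ((Category.assoc _ _ _).symm.trans (congrArg (· ≫ _) (MorphismProperty.Over.w c)))
    have hn : ∀ (z : ((EtCoh.bc (pullback.snd q₂ r)).obj A₁).left ⟶ pullback q r)
        (hz : zA ≫ A₁.hom = z ≫ pullback.snd q r),
        (zA ≫ A₁.hom ≫ pullback.fst f ι) ≫ f = (nMap q r m hm zA z hz ≫ UW.hom ≫ j) ≫ f := by
      intro z hz
      rw [← Category.assoc (nMap q r m hm zA z hz), nMap_snd, Category.assoc _ j f, hj]
      simp only [Category.assoc]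
      rw [pullback.condition_assoc (f := q) (g := r), ← reassoc_of% hz, pullback.condition (f := f) (g := ι)]
    have k₁ := key _ zA z' hz' _ _ hA rfl (hn z' hz')
    have k₂ := key _ zA z'' hz'' _ (n₂ ≫ U₂.hom ≫ j₂) hA (by
      simp only [j₂]
      rw [← hn₂, Category.assoc, ← Category.assoc π₂, hπ₂, Category.assoc]) (by
      have := hn z'' hz''
      rw [this]
      simp only [j₂]
      rw [← hn₂, Category.assoc n₂, ← Category.assoc π₂, hπ₂, Category.assoc U₂.hom])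
    simp only [σ₁, σ₂]
    rw [res_Φ F' φ n₂ _ _ hππ (nMap q r m hm zA z' hz' ≫ UW.hom ≫ j) _
        (by rw [← hn₁, Category.assoc]) rfl,
      res_res F' π₁ n₂ _ hn₁, res_res F' π₂ n₂ _ hn₂, ← k₁, Φ_Φ F' φ hφ, k₂]
  obtain ⟨a₁, ha₁⟩ := hac
  obtain ⟨U₁, c₁, ⟨u, hu₁⟩, e₁⟩ := exists_agree F' q₂ j₂ r m hm σ₁ σ₂ _ rfl hagree a₁
  haveI := etale_left c₁
  haveI := A₁.prop
  let A₂ : (pullback f ι).Etale := Scheme.Etale.mk (pullback.fst m c₁.left ≫ A₁.hom)
  have hm₂ : pullback.snd m c₁.left ≫ U₁.hom = A₂.hom ≫ r := by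
    show _ = (pullback.fst m c₁.left ≫ A₁.hom) ≫ r
    rw [Category.assoc, ← hm, pullback.condition_assoc]
    exact congrArg (pullback.snd m c₁.left ≫ ·) (MorphismProperty.Over.w c₁).symm
  let κ := ((EtCoh.bc q).map c₁).left
  have hκ : κ ≫ UW.hom = ((EtCoh.bc q).obj U₁).hom := MorphismProperty.Over.w ((EtCoh.bc q).map c₁)
  refine ⟨A₂, pullback.fst m c₁.left ≫ c.left ≫ i₀, U₁, pullback.snd m c₁.left, hm₂,
    res F' κ _ (((EtCoh.bc q).obj U₁).hom ≫ j) (by rw [← Category.assoc, hκ]) σ, ?_, ?_, ?_, ?_⟩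
  · show _ = (pullback.fst m c₁.left ≫ A₁.hom) ≫ pullback.fst f ι
    simp only [Category.assoc, hi₀]
    exact congrArg (pullback.fst m c₁.left ≫ ·)
      ((Category.assoc _ _ _).symm.trans (congrArg (· ≫ _) (MorphismProperty.Over.w c)))
  · obtain ⟨z, hz, -⟩ := Scheme.Pullback.exists_preimage_pullback (f := m) (g := c₁.left) a₁ u hu₁.symm
    refine ⟨z, ?_⟩
    rw [Scheme.Hom.comp_apply, Scheme.Hom.comp_apply]
    exact (congrArg (fun z => i₀ (c.left z)) hz).trans ((congrArg i₀ ha₁).trans ha)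
  · intro Z n n' u₁ u₂ h₁ h₂ h e
    let UW₁ := (EtCoh.bc q).obj U₁
    have hq : (n ≫ UW₁.hom) ≫ q = (n' ≫ UW₁.hom) ≫ q := by
      rw [Category.assoc, Category.assoc, show UW₁.hom ≫ q = pullback.fst U₁.hom q ≫ U₁.hom from pullback.condition.symm,
        ← Category.assoc, e, Category.assoc]
    let k : Z ⟶ ((EtCoh.bc q₂).obj U₁).left := pullback.lift (n ≫ pullback.fst U₁.hom q)
      (pullback.lift (n ≫ UW₁.hom) (n' ≫ UW₁.hom) hq) (by
        simp only [q₂]
        rw [pullback.lift_fst_assoc, Category.assoc, Category.assoc]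
        exact congrArg (n ≫ ·) pullback.condition)
    let κ₂ := ((EtCoh.bc q₂).map c₁).left
    have hk₁ : (k ≫ κ₂) ≫ π₁ = n ≫ κ := by
      apply pullback.hom_ext
      · simp only [Category.assoc, π₁, pullback.lift_fst]
        rw [show κ₂ ≫ pullback.fst U.hom q₂ = _ from bc_map_fst q₂ c₁,
          show κ ≫ pullback.fst U.hom q = _ from bc_map_fst q c₁, pullback.lift_fst_assoc, Category.assoc]
      · simp only [Category.assoc, π₁, pullback.lift_snd]
        rw [← Category.assoc κ₂, show κ₂ ≫ pullback.snd U.hom q₂ = _ from bc_map_snd q₂ c₁,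
          show κ ≫ pullback.snd U.hom q = _ from bc_map_snd q c₁, pullback.lift_snd_assoc, pullback.lift_fst]
        rfl
    have hk₂ : (k ≫ κ₂) ≫ π₂ = n' ≫ κ := by
      apply pullback.hom_ext
      · simp only [Category.assoc, π₂, pullback.lift_fst]
        rw [show κ₂ ≫ pullback.fst U.hom q₂ = _ from bc_map_fst q₂ c₁,
          show κ ≫ pullback.fst U.hom q = _ from bc_map_fst q c₁, pullback.lift_fst_assoc, ← Category.assoc n', ← e]
      · simp only [Category.assoc, π₂, pullback.lift_snd]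
        rw [← Category.assoc κ₂, show κ₂ ≫ pullback.snd U.hom q₂ = _ from bc_map_snd q₂ c₁,
          show κ ≫ pullback.snd U.hom q = _ from bc_map_snd q c₁, pullback.lift_snd_assoc, pullback.lift_snd]
        rfl
    have hk : k ≫ ((EtCoh.bc q₂).obj U₁).hom ≫ j₂ = u₂ := by
      rw [← Category.assoc, show k ≫ ((EtCoh.bc q₂).obj U₁).hom = _ from pullback.lift_snd _ _ _]
      simp only [j₂]
      rw [pullback.lift_snd_assoc, Category.assoc, h₂]
    have hk' : k ≫ κ₂ ≫ U₂.hom ≫ j₂ = u₂ := by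
      rw [← Category.assoc κ₂, show κ₂ ≫ U₂.hom = _ from MorphismProperty.Over.w ((EtCoh.bc q₂).map c₁), hk]
    have key₂ := congrArg (res F' k _ u₂ hk) e₁
    simp only [σ₁, σ₂] at key₂
    rw [res_res F' κ₂ k _ rfl, res_res F' κ₂ k _ rfl] at key₂
    rw [res_Φ F' φ (k ≫ κ₂) _ _ hππ u₁ u₂ (by
        rw [← h₁, ← Category.assoc (k ≫ κ₂), hk₁, Category.assoc, ← Category.assoc κ, hκ]),
      res_res F' π₁ (k ≫ κ₂) (n ≫ κ) hk₁, res_res F' π₂ (k ≫ κ₂) (n' ≫ κ) hk₂] at key₂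
    rw [res_res F' κ n _ rfl, res_res F' κ n' _ rfl]
    exact key₂
  · intro Z z₁ z₂ hz u₁ u₂ h₁ h₂ h
    have e : nMap q r (pullback.snd m c₁.left) hm₂ z₁ z₂ hz ≫ κ =
        nMap q r m hm (z₁ ≫ pullback.fst m c₁.left) z₂ (by rw [Category.assoc]; exact hz) := by
      apply pullback.hom_ext
      · rw [Category.assoc, show κ ≫ pullback.fst U.hom q = _ from bc_map_fst q c₁, ← Category.assoc, nMap_fst, nMap_fst,
          Category.assoc, Category.assoc, pullback.condition]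
      · rw [Category.assoc]
        exact (congrArg (_ ≫ ·) hκ).trans ((nMap_snd q r _ hm₂ z₁ z₂ hz).trans (nMap_snd q r m hm _ _ _).symm)
    rw [res_res F' κ _ _ e]
    have e' : z₁ ≫ pullback.fst m c₁.left ≫ c.left ≫ i₀ = (z₁ ≫ pullback.fst m c₁.left) ≫ c.left ≫ i₀ :=
      (Category.assoc _ _ _).symm
    rw [pb_congr F' u₁ e' h₁ t]
    exact key _ _ z₂ _ u₁ u₂ _ _ h

include hφ hj in
/-- **effective descent over a chart**: sections near the chart come from compatible sections -/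
theorem exists_desc_chart
    (hq : ∀ (Y : Scheme.{u}) (y : Y ⟶ O), Topology.IsQuotientMap (pullback.snd q y))
    (hBC : IsIso (EtBC.baseChange0Sh q (pullback.snd f ι) (pullback.snd q (pullback.snd f ι))
      (pullback.fst q (pullback.snd f ι)) pullback.condition ((EtDesc.pullSh j).obj F')))
    (hBC₂ : IsIso (EtBC.baseChange0Sh (pullback.fst q q ≫ q) (pullback.snd f ι)
      (pullback.snd (pullback.fst q q ≫ q) (pullback.snd f ι))
      (pullback.fst (pullback.fst q q ≫ q) (pullback.snd f ι)) pullback.condition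
      ((EtDesc.pullSh (pullback.snd q q ≫ j)).obj F')))
    (V : X'.Etale) (t : EtDesc.sect F' V) (v : V.left) (hv : f (V.hom v) ∈ Set.range ι) :
    ∃ (U : B.Etale) (s : EtDesc.sect F' ((EtCoh.bc f).obj U)) (W' : X'.Etale) (a : W' ⟶ V)
      (b : W' ⟶ (EtCoh.bc f).obj U),
      Compat F' φ U s ∧ v ∈ Set.range a.left ∧ F'.obj.map b.op s = F'.obj.map a.op t := by
  obtain ⟨A₁, i, U, m, hm, σ, hi, hvi, hcompat, hgerm⟩ := exists_compat_chart F' φ hφ ι q j hj hBC hBC₂ V t v hv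
  let r : pullback f ι ⟶ O := pullback.snd f ι
  haveI := U.prop
  let UB : B.Etale := Scheme.Etale.mk (U.hom ≫ ι)
  let U' := (EtCoh.bc f).obj UB
  let UW := (EtCoh.bc q).obj U
  let pU : UW.left ⟶ U.left := pullback.fst U.hom q
  let fU : U'.left ⟶ U.left := pullback.fst UB.hom f
  have hfU : U'.hom ≫ f = fU ≫ U.hom ≫ ι := pullback.condition.symm
  have hpU : (UW.hom ≫ j) ≫ f = pU ≫ U.hom ≫ ι := by
    rw [Category.assoc, hj, ← Category.assoc, show UW.hom ≫ q = pU ≫ U.hom from pullback.condition.symm, Category.assoc]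
  have hqU : ∀ (Y : Scheme.{u}) (y : Y ⟶ U.left), Topology.IsQuotientMap (pullback.snd pU y) :=
    univQuot_of_isPullback hq (IsPullback.of_hasPullback U.hom q).flip
  let e₁ : pullback fU pU ⟶ U'.left := pullback.fst fU pU
  let e₂ : pullback fU pU ⟶ UW.left := pullback.snd fU pU
  have hsub : ∀ (Y : Scheme.{u}) (y : Y ⟶ U'.left), Topology.IsQuotientMap (pullback.snd e₁ y) :=
    univQuot_of_isPullback hqU (IsPullback.of_hasPullback fU pU).flip
  have hee : (e₂ ≫ UW.hom ≫ j) ≫ f = (e₁ ≫ U'.hom) ≫ f := by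
    rw [Category.assoc e₂, hpU, Category.assoc e₁, hfU, ← Category.assoc e₁, pullback.condition, Category.assoc]
  let x : Sec F' (e₁ ≫ U'.hom) := Φ F' φ _ _ hee (res F' e₂ _ (e₂ ≫ UW.hom ≫ j) rfl σ)
  obtain ⟨y, hy⟩ := exists_descend F' e₁ U'.hom (e₁ ≫ U'.hom) rfl hsub x fun Z a b w ha hb e => by
    have hw : (a ≫ e₂ ≫ UW.hom ≫ j) ≫ f = w ≫ f := by rw [← ha, Category.assoc a, hee, Category.assoc a]
    have hab : (a ≫ e₂) ≫ pU = (b ≫ e₂) ≫ pU := by
      rw [Category.assoc, Category.assoc, ← pullback.condition, ← Category.assoc, e, Category.assoc]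
    have hw' : (b ≫ e₂ ≫ UW.hom ≫ j) ≫ f = w ≫ f := by rw [← hb, Category.assoc b, hee, Category.assoc b]
    simp only [x]
    rw [res_Φ F' φ a _ _ hee (a ≫ e₂ ≫ UW.hom ≫ j) w rfl ha, res_Φ F' φ b _ _ hee (b ≫ e₂ ≫ UW.hom ≫ j) w rfl hb,
      res_res F' e₂ a _ rfl, res_res F' e₂ b _ rfl,
      ← hcompat Z (a ≫ e₂) (b ≫ e₂) _ _ (Category.assoc _ _ _) (Category.assoc _ _ _) (hw.trans hw'.symm) hab,
      Φ_Φ F' φ hφ]
  obtain ⟨s, hs⟩ := (bijective_pb F' U').2 y
  have hpb : ∀ (Z : Scheme.{u}) (c : Z ⟶ U'.left) (w : Z ⟶ X') (hc : c ≫ U'.hom = w),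
      pb F' w c hc s = res F' c U'.hom w hc y := by
    intro Z c w hc
    rw [← hs, res_pb]
    exact pb_congr F' _ (o := U') (Category.comp_id c).symm _ _
  have hres : ∀ (Z : Scheme.{u}) (d : Z ⟶ pullback fU pU) (w₁ w : Z ⟶ X') (h₁ : d ≫ e₂ ≫ UW.hom ≫ j = w₁)
      (hc : (d ≫ e₁) ≫ U'.hom = w) (h : w₁ ≫ f = w ≫ f),
      pb F' w (d ≫ e₁) hc s = Φ F' φ w₁ w h (res F' (d ≫ e₂) _ w₁ ((Category.assoc _ _ _).trans h₁) σ) := by
    intro Z d w₁ w h₁ hc h
    rw [hpb, ← res_res F' e₁ d (d ≫ e₁) rfl U'.hom (e₁ ≫ U'.hom) w rfl ((Category.assoc _ _ _).symm.trans hc), hy]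
    simp only [x]
    rw [res_Φ F' φ d _ _ hee w₁ w h₁, res_res F' e₂ d _ rfl]
  have hcS : Compat F' φ UB s := by
    intro Z a b u₁ u₂ ha hb h e
    let π := pullback.fst (a ≫ fU) pU
    refine injective_res F' π u₂ (π ≫ u₂) rfl (fun z => ?_) ?_
    · obtain ⟨z', hz'⟩ := (hqU Z (a ≫ fU)).surjective z
      refine ⟨(pullbackSymmetry pU (a ≫ fU)).hom z', ?_⟩
      refine (Scheme.Hom.comp_apply _ _ _).symm.trans ?_
      rwa [pullbackSymmetry_hom_comp_fst]
    let n := pullback.snd (a ≫ fU) pU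
    let dA : pullback (a ≫ fU) pU ⟶ pullback fU pU := pullback.lift (π ≫ a) n
      ((Category.assoc _ _ _).trans pullback.condition)
    let dB : pullback (a ≫ fU) pU ⟶ pullback fU pU := pullback.lift (π ≫ b) n
      ((Category.assoc _ _ _).trans ((congrArg (π ≫ ·) e.symm).trans pullback.condition))
    have hA : dA ≫ e₁ = π ≫ a := pullback.lift_fst _ _ _
    have hB : dB ≫ e₁ = π ≫ b := pullback.lift_fst _ _ _
    have hA' : dA ≫ e₂ = n := pullback.lift_snd _ _ _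
    have hB' : dB ≫ e₂ = n := pullback.lift_snd _ _ _
    let w₁ := n ≫ UW.hom ≫ j
    have h₁ : dA ≫ e₂ ≫ UW.hom ≫ j = w₁ := by rw [← Category.assoc, hA']
    have h₂ : dB ≫ e₂ ≫ UW.hom ≫ j = w₁ := by rw [← Category.assoc, hB']
    have ka : w₁ ≫ f = (π ≫ u₁) ≫ f := by
      rw [← h₁, Category.assoc dA, hee, ← Category.assoc dA, ← Category.assoc dA, hA, Category.assoc π, ha]
    have kb : w₁ ≫ f = (π ≫ u₂) ≫ f := ka.trans (by rw [Category.assoc, Category.assoc, h])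
    rw [res_Φ F' φ π u₁ u₂ h (π ≫ u₁) (π ≫ u₂) rfl rfl, res_pb, res_pb, pb_congr F' _ hA.symm, pb_congr F' _ hB.symm,
      hres _ dA w₁ _ h₁ _ ka, hres _ dB w₁ _ h₂ _ kb, Φ_Φ F' φ hφ]
    refine congrArg (Φ F' φ _ _ _) ?_
    have : ∀ (n' : pullback (a ≫ fU) pU ⟶ UW.left) (_ : n' = n) (hn : n' ≫ UW.hom ≫ j = w₁),
        res F' n' _ w₁ hn σ = res F' n _ w₁ rfl σ := by
      rintro _ rfl hn
      rfl
    exact (this _ hA' _).trans (this _ hB' _).symm
  -- the neighbourhood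
  haveI := A₁.prop
  haveI : AlgebraicGeometry.Etale (pullback.fst f ι) := inferInstance
  let W' : X'.Etale := Scheme.Etale.mk (A₁.hom ≫ pullback.fst f ι)
  let a : W' ⟶ V := MorphismProperty.Over.homMk i hi
  let bm : A₁.left ⟶ U'.left := pullback.lift m W'.hom (by
    show m ≫ U.hom ≫ ι = (A₁.hom ≫ pullback.fst f ι) ≫ f
    rw [reassoc_of% hm, Category.assoc, pullback.condition (f := f) (g := ι)])
  let b : W' ⟶ U' := MorphismProperty.Over.homMk bm (pullback.lift_snd _ _ _)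
  refine ⟨UB, s, W', a, b, hcS, hvi, (bijective_pb F' W').1 ?_⟩
  rw [pb_res, pb_res]
  let zA := pullback.fst A₁.hom (pullback.snd q r)
  let zP := pullback.snd A₁.hom (pullback.snd q r)
  let n := nMap q r m hm zA zP pullback.condition
  refine injective_res F' zA W'.hom (zA ≫ W'.hom) rfl (fun z => ?_) ?_
  · obtain ⟨p, hp⟩ := (hq _ r).surjective (A₁.hom z)
    obtain ⟨z', hz', -⟩ := Scheme.Pullback.exists_preimage_pullback (f := A₁.hom) (g := pullback.snd q r) z p hp.symm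
    exact ⟨z', hz'⟩
  have hbm : bm ≫ fU = m := pullback.lift_fst _ _ _
  let d : pullback A₁.hom (pullback.snd q r) ⟶ pullback fU pU := pullback.lift (zA ≫ bm) n (by
    rw [Category.assoc, hbm]
    exact (nMap_fst q r m hm zA zP pullback.condition).symm)
  have hd₁ : d ≫ e₁ = zA ≫ bm := pullback.lift_fst _ _ _
  have hd₂ : d ≫ e₂ = n := pullback.lift_snd _ _ _
  let w₁ := n ≫ UW.hom ≫ j
  have k₁ : d ≫ e₂ ≫ UW.hom ≫ j = w₁ := by rw [← Category.assoc, hd₂]
  have kk : w₁ ≫ f = (zA ≫ W'.hom) ≫ f := by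
    rw [← k₁, Category.assoc d, hee, ← Category.assoc d, ← Category.assoc d, hd₁, Category.assoc zA,
      show bm ≫ U'.hom = W'.hom from pullback.lift_snd _ _ _]
  rw [res_pb, res_pb, pb_congr F' _ (show zA ≫ 𝟙 W'.left ≫ b.left = d ≫ e₁ from (congrArg (zA ≫ ·) (Category.id_comp bm)).trans hd₁.symm),
    hres _ d w₁ _ k₁ _ kk]
  have hgi : zA ≫ 𝟙 W'.left ≫ a.left = zA ≫ i := congrArg (zA ≫ ·) (Category.id_comp i)
  rw [pb_congr F' _ hgi]
  have this : ∀ (n' : pullback A₁.hom (pullback.snd q r) ⟶ UW.left) (_ : n' = n) (hn : n' ≫ UW.hom ≫ j = w₁),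
      res F' n' _ w₁ hn σ = res F' n _ w₁ rfl σ := by
    rintro _ rfl hn
    rfl
  rw [this _ hd₂, ← hgerm _ zA zP pullback.condition (zA ≫ W'.hom) w₁ (by
      rw [Category.assoc]; exact congrArg (zA ≫ ·) hi) rfl kk.symm,
    Φ_Φ F' φ hφ, Φ_self F' φ hφ]

end Chart

end Groth.Agent.EtShDesc
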