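import Groth.Agent.EtShDesc.Calc

/-!
Pullbacks of sections along morphisms to étale schemes, gluing, and descent of sections along universally submersive
morphisms.
-/

set_option autoImplicit false
set_option backward.isDefEq.respectTransparency false
set_option backward.isDefEq.respectTransparency.types false
set_option maxHeartbeats 1000000
set_option linter.style.haveILetI false
set_option linter.unusedSectionVars false

universe u

open CategoryTheory CategoryTheory.Limits AlgebraicGeometry Opposite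

noncomputable section

namespace Groth.Agent.EtShDesc

open Groth.Agent.EtShLib Groth.Agent.EtShSep

variable {X : Scheme.{u}} (F : EtDesc.Sh X) {T T' : Scheme.{u}}

/-- a section over an étale scheme pulled back along a morphism to it -/
def pb (u : T ⟶ X) {o : X.Etale} (m : T ⟶ o.left) (w : m ≫ o.hom = u) (s : EtDesc.sect F o) : Sec F u :=
  ru u F (mkδ u (T := EtCoh.top T) (o := o) m (w.trans (Category.id_comp u).symm)) s

theorem pb_congr (u : T ⟶ X) {o : X.Etale} {m m' : T ⟶ o.left} (e : m = m') (w : m ≫ o.hom = u)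
    (s : EtDesc.sect F o) : pb F u m w s = pb F u m' (e ▸ w) s := by subst e; rfl

theorem res_pb (g : T' ⟶ T) (u : T ⟶ X) (u' : T' ⟶ X) (hu : g ≫ u = u') {o : X.Etale} (m : T ⟶ o.left)
    (w : m ≫ o.hom = u) (s : EtDesc.sect F o) :
    res F g u u' hu (pb F u m w s) = pb F u' (g ≫ m) (by rw [Category.assoc, w, hu]) s := by
  refine tr_ru F g u u' hu _ _ _ ?_ s
  rw [mkδ_fst, mkδ_fst, mkδ_fst]

theorem pb_res (u : T ⟶ X) {o o' : X.Etale} (a : o' ⟶ o) (m : T ⟶ o'.left) (w : m ≫ o'.hom = u)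
    (s : EtDesc.sect F o) :
    pb F u m w (F.obj.map a.op s) =
      pb F u (m ≫ a.left) ((Category.assoc _ _ _).trans ((congrArg (m ≫ ·) (MorphismProperty.Over.w a)).trans w)) s := by
  rw [pb, pb, ru_res]
  refine congrArg (fun d => ru u F d s) (bc_ext u ?_)
  rw [comp_map_fst, mkδ_fst, mkδ_fst]

theorem toSec_ru (u : T ⟶ X) (V : T.Etale) (u' : V.left ⟶ X) (hu : V.hom ≫ u = u') {o : X.Etale}
    (ε : V ⟶ (EtCoh.bc u).obj o) (s : EtDesc.sect F o) :
    toSec F u V u' hu (ru u F ε s) =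
      pb F u' (ε.left ≫ pullback.fst o.hom u) ((bc_w u ε).trans hu) s := by
  refine tr_ru F V.hom u u' hu (δdiag V) ε _ ?_ s
  rw [δdiag, mkδ_fst, mkδ_fst]
  exact Category.id_comp _

/-- sections are locally pulled back -/
theorem exists_pb (u : T ⟶ X) (x : Sec F u) (p : T) :
    ∃ (W : T.Etale) (o : X.Etale) (m : W.left ⟶ o.left) (w : m ≫ o.hom = W.hom ≫ u) (s : EtDesc.sect F o),
      p ∈ Set.range W.hom ∧ res F W.hom u _ rfl x = pb F (W.hom ≫ u) m w s := by
  obtain ⟨W, a, o, ε, s, ⟨z, hz⟩, h⟩ := exists_rep F u x p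
  have ha := tT_eq a
  subst ha
  refine ⟨W, o, ε.left ≫ pullback.fst o.hom u, bc_w u ε, s, ⟨z, hz⟩, ?_⟩
  rw [← toSec_res F u W (W.hom ≫ u) rfl x, h, toSec_ru F u W (W.hom ≫ u) rfl ε s]

theorem mem_eqLoc_bij {A B : EtDesc.Sh T} (a : A ⟶ B) (ha : ∀ V, Function.Injective (appH a V)) (V : T.Etale)
    (x y : EtDesc.sect A V) (p : V.left) :
    p ∈ eqLoc B V (appH a V x) (appH a V y) ↔ p ∈ eqLoc A V x y := by
  refine ⟨fun ⟨W, g, hg, e⟩ => ⟨W, g, hg, ha W ?_⟩, fun ⟨W, g, hg, e⟩ => ⟨W, g, hg, ?_⟩⟩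
  · rwa [map_appH, map_appH] at e
  · rw [map_appH, map_appH, e]

theorem mem_eqLoc_res (g : T' ⟶ T) (u : T ⟶ X) (u' : T' ⟶ X) (hu : g ≫ u = u') (x y : Sec F u) (p : T') :
    p ∈ eqLoc ((EtDesc.pullSh u').obj F) (EtCoh.top T') (res F g u u' hu x) (res F g u u' hu y) ↔
      g p ∈ eqLoc ((EtDesc.pullSh u).obj F) (EtCoh.top T) x y := by
  rw [res, res, tr, tr]
  refine (mem_eqLoc_bij (EtDesc.pullVia g u u' hu F).hom (fun V => (bijective_appH _ V).1)
    (EtCoh.top T') _ _ p).trans ?_
  refine (mem_eqLoc_ru g ((EtDesc.pullSh u).obj F) (T := EtCoh.top T') _ x y p).trans ?_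
  refine iff_of_eq (congrArg (· ∈ eqLoc ((EtDesc.pullSh u).obj F) (EtCoh.top T) x y) ?_)
  exact fst_apply g (T := EtCoh.top T') (o := EtCoh.top T) g _ p

theorem mem_eqLoc_pb (u : T ⟶ X) {o : X.Etale} (m : T ⟶ o.left) (w : m ≫ o.hom = u) (s s' : EtDesc.sect F o) (p : T) :
    p ∈ eqLoc ((EtDesc.pullSh u).obj F) (EtCoh.top T) (pb F u m w s) (pb F u m w s') ↔ m p ∈ eqLoc F o s s' := by
  rw [pb, pb]
  refine (mem_eqLoc_ru u F (T := EtCoh.top T) _ s s' p).trans ?_
  refine iff_of_eq (congrArg (· ∈ eqLoc F o s s') ?_)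
  exact fst_apply u (T := EtCoh.top T) (o := o) m _ p

/-- pullbacks agree when the image lies in the locus of agreement -/
theorem res_eq_of_mem (g : T' ⟶ T) (u : T ⟶ X) (u' : T' ⟶ X) (hu : g ≫ u = u') (x y : Sec F u)
    (h : ∀ p, g p ∈ eqLoc ((EtDesc.pullSh u).obj F) (EtCoh.top T) x y) : res F g u u' hu x = res F g u u' hu y :=
  eq_of_eqLoc fun p => (mem_eqLoc_res F g u u' hu x y p).mpr (h p)

theorem mem_of_res_eq (g : T' ⟶ T) (u : T ⟶ X) (u' : T' ⟶ X) (hu : g ≫ u = u') (x y : Sec F u)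
    (h : res F g u u' hu x = res F g u u' hu y) (p : T') :
    g p ∈ eqLoc ((EtDesc.pullSh u).obj F) (EtCoh.top T) x y := by
  refine (mem_eqLoc_res F g u u' hu x y p).mp ?_
  rw [h, eqLoc_self]
  trivial

/-- sections glue -/
theorem exists_glue (u : T ⟶ X) {ι : Type*} (W : ι → T.Etale) (hW : ∀ p : T, ∃ i, p ∈ Set.range (W i).hom)
    (y : ∀ i, Sec F ((W i).hom ≫ u))
    (h : ∀ (i k : ι) (Z : Scheme.{u}) (a : Z ⟶ (W i).left) (b : Z ⟶ (W k).left) (e : a ≫ (W i).hom = b ≫ (W k).hom),
      res F a ((W i).hom ≫ u) (a ≫ (W i).hom ≫ u) rfl (y i) =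
        res F b ((W k).hom ≫ u) (a ≫ (W i).hom ≫ u) (by rw [← Category.assoc, ← e, Category.assoc]) (y k)) :
    ∃ x : Sec F u, ∀ i, res F (W i).hom u _ rfl x = y i := by
  choose t ht using fun i => (bijective_toSec F u (W i) _ rfl).2 (y i)
  obtain ⟨x, hx⟩ := exists_amalg (G := (EtDesc.pullSh u).obj F) (P := EtCoh.top T) W (fun i => tT (W i)) hW t
    (fun i k P a b hab => by
      have e : a.left ≫ (W i).hom = b.left ≫ (W k).hom :=
        (MorphismProperty.Over.w a).trans (MorphismProperty.Over.w b).symm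
      have hv : a.left ≫ (W i).hom ≫ u = P.hom ≫ u := by
        rw [← Category.assoc]; exact congrArg (· ≫ u) (MorphismProperty.Over.w a)
      have key : ∀ {j : ι} (c : P ⟶ W j) (hc : c.left ≫ (W j).hom ≫ u = P.hom ≫ u),
          toSec F u P (P.hom ≫ u) rfl (((EtDesc.pullSh u).obj F).obj.map c.op (t j)) =
            res F c.left ((W j).hom ≫ u) (P.hom ≫ u) hc (y j) := by
        intro j c hc
        rw [← ht j, res_toSec F P.hom u (P.hom ≫ u) rfl (W j) c.left (MorphismProperty.Over.w c) _ rfl (t j)]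
        refine (tr_res F P.hom u _ rfl c (δdiag P) (t j)).trans (congrArg (fun d => tr F P.hom u _ rfl d (t j)) ?_)
        refine bc_ext P.hom ?_
        rw [comp_map_fst, δdiag, mkδ_fst, mkδ_fst]
        exact Category.id_comp _
      apply (bijective_toSec F u P _ rfl).1
      rw [key a hv, key b (by rw [← Category.assoc, ← e, Category.assoc, hv])]
      have := h i k P.left a.left b.left e
      have hid : ∀ {j : ι} (c : P.left ⟶ (W j).left) (h₁ : c ≫ (W j).hom ≫ u = a.left ≫ (W i).hom ≫ u),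
          res F (𝟙 P.left) (a.left ≫ (W i).hom ≫ u) (P.hom ≫ u) ((Category.id_comp _).trans hv)
            (res F c ((W j).hom ≫ u) (a.left ≫ (W i).hom ≫ u) h₁ (y j)) =
            res F c ((W j).hom ≫ u) (P.hom ≫ u) (h₁.trans hv) (y j) := fun c h₁ =>
        res_res F c (𝟙 P.left) c (Category.id_comp c) _ _ _ h₁ ((Category.id_comp _).trans hv) _
      rw [← hid a.left rfl, this, hid b.left (by rw [← Category.assoc, ← e, Category.assoc])])
  exact ⟨x, fun i => by rw [← ht i, ← hx i, toSec_res]⟩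

/-- **sections descend along universally submersive morphisms** -/
theorem exists_descend (g : T' ⟶ T) (u : T ⟶ X) (u' : T' ⟶ X) (hu : g ≫ u = u')
    (hs : ∀ (Y : Scheme.{u}) (t : Y ⟶ T), Topology.IsQuotientMap (pullback.snd g t)) (x : Sec F u')
    (hx : ∀ (Z : Scheme.{u}) (a b : Z ⟶ T') (v : Z ⟶ X) (ha : a ≫ u' = v) (hb : b ≫ u' = v),
      a ≫ g = b ≫ g → res F a u' v ha x = res F b u' v hb x) :
    ∃ y : Sec F u, res F g u u' hu y = x := by
  have hsurj : ∀ (Y : Scheme.{u}) (t : Y ⟶ T), Function.Surjective (pullback.snd g t) := fun Y t => (hs Y t).surjective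
  have hgs : Function.Surjective g := fun p => by
    obtain ⟨z, hz⟩ := hsurj T (𝟙 T) p
    refine ⟨pullback.fst g (𝟙 T) z, ?_⟩
    rw [← Scheme.Hom.comp_apply, pullback.condition, Category.comp_id]
    exact hz
  have hloc : ∀ p : T, ∃ (W : T.Etale) (y : Sec F (W.hom ≫ u)), p ∈ Set.range W.hom ∧
      ∀ (Z : Scheme.{u}) (a : Z ⟶ W.left) (c : Z ⟶ T') (e : c ≫ g = a ≫ W.hom),
        res F a (W.hom ≫ u) (c ≫ u') (by rw [← hu, ← Category.assoc, ← Category.assoc, e]) y =
          res F c u' (c ≫ u') rfl x := by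
    intro p
    obtain ⟨p', rfl⟩ := hgs p
    obtain ⟨W', o, m, w, s, ⟨q, hq⟩, hW⟩ := exists_pb F u' x p'
    let O : T.Etale := (EtCoh.bc u).obj o
    let σ : Sec F (O.hom ≫ u) := pb F (O.hom ≫ u) (pullback.fst o.hom u) pullback.condition s
    let α : pullback g O.hom ⟶ T' := pullback.fst g O.hom
    let β : pullback g O.hom ⟶ O.left := pullback.snd g O.hom
    let k : pullback g O.hom ⟶ X := α ≫ u'
    have hβ : β ≫ O.hom ≫ u = k := by
      simp only [k, α, β]
      rw [← Category.assoc, ← pullback.condition, Category.assoc, hu]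
    let E := eqLoc ((EtDesc.pullSh k).obj F) (EtCoh.top _) (res F α u' k rfl x) (res F β (O.hom ≫ u) k hβ σ)
    let l₀ : W'.left ⟶ O.left := pullback.lift m (W'.hom ≫ g) (by rw [Category.assoc, hu]; exact w)
    let l : W'.left ⟶ pullback g O.hom := pullback.lift W'.hom l₀ (pullback.lift_snd _ _ _).symm
    have hl : l q ∈ E := by
      have h1 : l ≫ α = W'.hom := pullback.lift_fst _ _ _
      have h2 : l ≫ β = l₀ := pullback.lift_snd _ _ _
      have h3 : l₀ ≫ pullback.fst o.hom u = m := pullback.lift_fst _ _ _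
      have hk : l ≫ k = W'.hom ≫ u' := by simp only [k]; rw [← Category.assoc, h1]
      refine mem_of_res_eq F l k (W'.hom ≫ u') hk _ _ ?_ q
      rw [res_res F α l W'.hom h1, res_res F β l l₀ h2, hW, res_pb F]
      exact pb_congr F _ h3.symm _ _
    have hsat : β ⁻¹' (β '' E) = E := by
      refine Set.Subset.antisymm ?_ (Set.subset_preimage_image _ _)
      rintro z ⟨z₀, hz₀, hzz⟩
      obtain ⟨r, hr₁, hr₂⟩ := Scheme.Pullback.exists_preimage_pullback (f := β) (g := β) z z₀ hzz.symm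
      let v : pullback β β ⟶ X := pullback.fst β β ≫ k
      have hv : pullback.snd β β ≫ k = v := by
        simp only [v]; rw [← hβ, ← Category.assoc, ← pullback.condition, Category.assoc]
      have e : (pullback.fst β β ≫ α) ≫ g = (pullback.snd β β ≫ α) ≫ g := by
        simp only [α]
        rw [Category.assoc, Category.assoc, pullback.condition, ← Category.assoc, ← Category.assoc]
        exact congrArg (· ≫ O.hom) pullback.condition
      have e₁ : res F (pullback.fst β β) k v rfl (res F α u' k rfl x) =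
          res F (pullback.snd β β) k v hv (res F α u' k rfl x) := by
        rw [res_res F α _ _ rfl, res_res F α _ _ rfl]
        exact hx _ _ _ v _ _ e
      have e₂ : res F (pullback.fst β β) k v rfl (res F β (O.hom ≫ u) k hβ σ) =
          res F (pullback.snd β β) k v hv (res F β (O.hom ≫ u) k hβ σ) := by
        rw [res_res F β _ _ rfl, res_res F β _ _ pullback.condition.symm]
      rw [← hr₁]
      refine (mem_eqLoc_res F (pullback.fst β β) k v rfl _ _ r).mp ?_
      rw [e₁, e₂]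
      refine (mem_eqLoc_res F (pullback.snd β β) k v hv _ _ r).mpr ?_
      rw [hr₂]
      exact hz₀
    have hO : IsOpen (β '' E) := by
      refine (hs O.left O.hom).isOpen_preimage.mp ?_
      rw [hsat]
      exact isOpen_eqLoc _ _
    let U : O.left.Opens := ⟨_, hO⟩
    haveI := O.prop
    let W : T.Etale := Scheme.Etale.mk (U.ι ≫ O.hom)
    refine ⟨W, res F U.ι (O.hom ≫ u) (W.hom ≫ u) (Category.assoc _ _ _).symm σ, ?_, ?_⟩
    · obtain ⟨z, hz⟩ := (Scheme.Opens.range_ι U).ge (⟨_, hl, rfl⟩ : β (l q) ∈ β '' E)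
      refine ⟨z, ?_⟩
      show (U.ι ≫ O.hom) z = _
      rw [Scheme.Hom.comp_apply, hz, ← hq]
      have e : l ≫ β ≫ O.hom = W'.hom ≫ g := by
        rw [← pullback.condition (f := g) (g := O.hom), ← Category.assoc, pullback.lift_fst]
      exact ((Scheme.Hom.comp_apply _ _ _).trans (Scheme.Hom.comp_apply _ _ _)).symm.trans
        ((congrArg (fun k : W'.left ⟶ T => k q) e).trans (Scheme.Hom.comp_apply _ _ _))
    · intro Z a c e
      let d : Z ⟶ pullback g O.hom := pullback.lift c (a ≫ U.ι) (e.trans (Category.assoc _ _ _).symm)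
      have hdα : d ≫ α = c := pullback.lift_fst _ _ _
      have hdβ : d ≫ β = a ≫ U.ι := pullback.lift_snd _ _ _
      have hdk : d ≫ k = c ≫ u' := by simp only [k]; rw [← Category.assoc, hdα]
      have key := res_eq_of_mem F d k (c ≫ u') hdk (res F α u' k rfl x) (res F β (O.hom ≫ u) k hβ σ) fun z => by
        refine hsat.le (?_ : β (d z) ∈ β '' E)
        rw [← Scheme.Hom.comp_apply, hdβ, Scheme.Hom.comp_apply]
        exact (Scheme.Opens.range_ι U).le ⟨_, rfl⟩
      rw [res_res F α d c hdα, res_res F β d _ hdβ] at key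
      rw [key, res_res F U.ι a _ rfl]
  choose W y hW hy using hloc
  obtain ⟨z, hz⟩ := exists_glue F u W (fun p => ⟨p, hW p⟩) y fun i k Z a b e => by
    let π := pullback.snd g (a ≫ (W i).hom)
    let c := pullback.fst g (a ≫ (W i).hom)
    have hc : c ≫ g = (π ≫ a) ≫ (W i).hom := pullback.condition.trans (Category.assoc _ _ _).symm
    have hc' : c ≫ g = (π ≫ b) ≫ (W k).hom :=
      pullback.condition.trans ((congrArg (π ≫ ·) e).trans (Category.assoc _ _ _).symm)
    refine injective_res F π _ (c ≫ u') (by rw [← hu, ← Category.assoc c g u, hc, Category.assoc, Category.assoc])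
      (hsurj _ _) ?_
    rw [res_res F a π _ rfl, res_res F b π _ rfl, hy i _ (π ≫ a) c hc, hy k _ (π ≫ b) c hc']
  refine ⟨z, sec_ext F u' _ _ fun p => ?_⟩
  let i := g p
  obtain ⟨w, hw⟩ := hW i
  obtain ⟨r, -, hr⟩ := Scheme.Pullback.exists_preimage_pullback (f := (W i).hom) (g := g) w p hw
  refine ⟨(EtCoh.bc g).obj (W i), ⟨r, hr⟩, ?_⟩
  let c : ((EtCoh.bc g).obj (W i)).left ⟶ T' := pullback.snd (W i).hom g
  let a : ((EtCoh.bc g).obj (W i)).left ⟶ (W i).left := pullback.fst (W i).hom g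
  have e : c ≫ g = a ≫ (W i).hom := pullback.condition.symm
  show res F c u' (c ≫ u') rfl (res F g u u' hu z) = res F c u' (c ≫ u') rfl x
  rw [← hy i _ a c e, ← hz i, res_res F g c _ e, res_res F (W i).hom a _ rfl]

end Groth.Agent.EtShDesc
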