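import Groth.Agent.EtShDesc.Effective

/-!
Descent of subsheaves along universally submersive morphisms.
-/

set_option autoImplicit false
set_option backward.isDefEq.respectTransparency false
set_option backward.isDefEq.respectTransparency.types false
set_option maxHeartbeats 1000000
set_option linter.style.haveILetI false
set_option linter.unusedSectionVars false

universe u

open CategoryTheory CategoryTheory.Limits AlgebraicGeometry Opposite

noncomputable section

namespace Groth.Agent.EtShDesc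

open Groth.Agent.EtShLib Groth.Agent.EtShSep

theorem injective_appH_of_mono {T : Scheme.{u}} {A B : EtDesc.Sh T} (a : A ⟶ B) [Mono a] (V : T.Etale) :
    Function.Injective (appH a V) := by
  haveI : Mono a.hom := (sheafToPresheaf _ _).map_mono a
  haveI : Mono (a.hom.app (op V)) := inferInstance
  exact (mono_iff_injective (a.hom.app (op V))).mp inferInstance

theorem mono_of_injective_appH {T : Scheme.{u}} {A B : EtDesc.Sh T} (a : A ⟶ B)
    (h : ∀ V, Function.Injective (appH a V)) : Mono a :=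
  ⟨fun {Z} b c e => ObjectProperty.hom_ext _ (NatTrans.ext (funext fun V => ConcreteCategory.hom_ext _ _ fun x =>
    h V.unop (congrArg (fun k : Z ⟶ B => k.hom.app V x) e)))⟩

/-- the points near which a section comes from a subsheaf -/
def locIm {T : Scheme.{u}} {A B : EtDesc.Sh T} (a : A ⟶ B) (V : T.Etale) (x : EtDesc.sect B V) : Set V.left :=
  {p | ∃ (W : T.Etale) (c : W ⟶ V) (y : EtDesc.sect A W), p ∈ Set.range c.left ∧ B.obj.map c.op x = appH a W y}

theorem isOpen_locIm {T : Scheme.{u}} {A B : EtDesc.Sh T} (a : A ⟶ B) (V : T.Etale) (x : EtDesc.sect B V) :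
    IsOpen (locIm a V x) := by
  refine isOpen_iff_forall_mem_open.mpr fun p hp => ?_
  obtain ⟨W, c, y, hc, e⟩ := hp
  haveI := etale_left c
  exact ⟨Set.range c.left, fun q hq => ⟨W, c, y, hq, e⟩, c.left.isOpenMap.isOpen_range, hc⟩

theorem mem_range_of_locIm {T : Scheme.{u}} {A B : EtDesc.Sh T} (a : A ⟶ B) (ha : ∀ V, Function.Injective (appH a V))
    (V : T.Etale) (x : EtDesc.sect B V) (h : ∀ p, p ∈ locIm a V x) : ∃ y, appH a V y = x := by
  choose W c y hc e using h
  obtain ⟨y₀, hy₀⟩ := exists_amalg (G := A) W c (fun p => ⟨p, hc p⟩) y (fun i k U b b' hbb => by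
    apply ha U
    rw [← map_appH, ← map_appH, ← e, ← e, map_map, map_map, hbb])
  exact ⟨y₀, eq_of_eqLoc fun p => ⟨W p, c p, hc p, by rw [map_appH, hy₀, e]⟩⟩

/-- pulled back sections and the locus where they come from a subsheaf -/
theorem mem_locIm_ru {T S : Scheme.{u}} (g : T ⟶ S) {A B : EtDesc.Sh S} (a : A ⟶ B) {V : T.Etale} {o : S.Etale}
    (δ : V ⟶ (EtCoh.bc g).obj o) (x : EtDesc.sect B o) (r : V.left) :
    r ∈ locIm ((EtDesc.pullSh g).map a) V (ru g B δ x) ↔ (δ.left ≫ pullback.fst o.hom g) r ∈ locIm a o x := by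
  constructor
  · rintro ⟨W, c, y, ⟨w, hw⟩, e⟩
    obtain ⟨W', b, o', ε, y₀, ⟨w', hw'⟩, hy⟩ := exists_rep A g y w
    haveI := o.prop
    haveI := o'.prop
    let P : S.Etale := Scheme.Etale.mk (pullback.fst o.hom o'.hom ≫ o.hom)
    let p₁ : P ⟶ o := MorphismProperty.Over.homMk (pullback.fst o.hom o'.hom) rfl
    let p₂ : P ⟶ o' := MorphismProperty.Over.homMk (pullback.snd o.hom o'.hom) pullback.condition.symm
    have hm₁ := bc_w g (b ≫ c ≫ δ)
    have hm₂ := bc_w g ε
    let d : W' ⟶ (EtCoh.bc g).obj P := mkδ g (pullback.lift _ _ (hm₁.trans hm₂.symm)) (by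
      show _ ≫ pullback.fst o.hom o'.hom ≫ o.hom = _
      rw [← Category.assoc, pullback.lift_fst]
      exact hm₁)
    have e₁ : b ≫ c ≫ δ = d ≫ (EtCoh.bc g).map p₁ := bc_ext g (by
      rw [comp_map_fst, mkδ_fst]
      exact (pullback.lift_fst _ _ _).symm)
    have e₂ : ε = d ≫ (EtCoh.bc g).map p₂ := bc_ext g (by
      rw [comp_map_fst, mkδ_fst]
      exact (pullback.lift_snd _ _ _).symm)
    have key : ru g B d (B.obj.map p₁.op x) = ru g B d (appH a P (A.obj.map p₂.op y₀)) := by
      rw [ru_res, ← e₁, ← map_appH, ru_res, ← e₂, ← appH_ru, ← hy, ← map_appH, ← e, map_ru, map_ru]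
    obtain ⟨U, j, ⟨u, hu⟩, hj⟩ := (mem_eqLoc_ru g B (T := W') d (B.obj.map p₁.op x) (appH a P (A.obj.map p₂.op y₀)) w').mp (by rw [key, eqLoc_self]; trivial)
    refine ⟨U, j ≫ p₁, A.obj.map j.op (A.obj.map p₂.op y₀), ⟨u, ?_⟩, ?_⟩
    · show (j.left ≫ p₁.left) u = _
      rw [Scheme.Hom.comp_apply, hu, ← hw, ← hw', ← Scheme.Hom.comp_apply, ← Scheme.Hom.comp_apply]
      have e' : (d.left ≫ pullback.fst P.hom g) ≫ p₁.left = (b.left ≫ c.left) ≫ δ.left ≫ pullback.fst o.hom g := by
        rw [← comp_map_fst, ← e₁]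
        exact (Category.assoc _ _ _).trans ((congrArg (b.left ≫ ·) (Category.assoc c.left δ.left _)).trans
          (Category.assoc _ _ _).symm)
      exact (congrArg (fun k : W'.left ⟶ o.left => k w') e').trans (Scheme.Hom.comp_apply _ _ _)
    · rw [← map_map, hj, map_appH]
  · rintro ⟨W, c, y, hW, e⟩
    obtain ⟨z, hz, -⟩ := Scheme.exists_preimage_of_isPullback (EtCoh.isPullback_bc_map g c)
      (δ.left r) _ ((Scheme.Hom.comp_apply _ _ _).symm.trans hW.choose_spec.symm)
    obtain ⟨Z, a', b', hab, hZ⟩ := exists_fibreProd δ ((EtCoh.bc g).map c)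
    obtain ⟨q, hq, -⟩ := hZ r z hz.symm
    refine ⟨Z, a', ru g A b' y, ⟨q, hq⟩, ?_⟩
    rw [map_ru, hab, ← ru_res, e, appH_ru]

/-- pulling back preserves injectivity on sections -/
theorem injective_pullMap {T S : Scheme.{u}} (g : T ⟶ S) {A B : EtDesc.Sh S} (a : A ⟶ B)
    (ha : ∀ V, Function.Injective (appH a V)) (V : T.Etale) : Function.Injective (appH ((EtDesc.pullSh g).map a) V) := by
  intro x y h
  refine eq_of_eqLoc fun p => ?_
  obtain ⟨W, b, o, ε, σ, ⟨w, hw⟩, hx⟩ := exists_rep A g x p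
  obtain ⟨W', b', o', ε', σ', ⟨w', hw'⟩, hy⟩ := exists_rep A g (((EtDesc.pullSh g).obj A).obj.map b.op y) w
  rw [map_map] at hy
  haveI := o.prop
  haveI := o'.prop
  let P : S.Etale := Scheme.Etale.mk (pullback.fst o.hom o'.hom ≫ o.hom)
  let p₁ : P ⟶ o := MorphismProperty.Over.homMk (pullback.fst o.hom o'.hom) rfl
  let p₂ : P ⟶ o' := MorphismProperty.Over.homMk (pullback.snd o.hom o'.hom) pullback.condition.symm
  have hm₁ := bc_w g (b' ≫ ε)
  have hm₂ := bc_w g ε'
  let d : W' ⟶ (EtCoh.bc g).obj P := mkδ g (pullback.lift _ _ (hm₁.trans hm₂.symm)) (by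
    show _ ≫ pullback.fst o.hom o'.hom ≫ o.hom = _
    rw [← Category.assoc, pullback.lift_fst]
    exact hm₁)
  have e₁ : b' ≫ ε = d ≫ (EtCoh.bc g).map p₁ := bc_ext g (by
    rw [comp_map_fst, mkδ_fst]
    exact (pullback.lift_fst _ _ _).symm)
  have e₂ : ε' = d ≫ (EtCoh.bc g).map p₂ := bc_ext g (by
    rw [comp_map_fst, mkδ_fst]
    exact (pullback.lift_snd _ _ _).symm)
  have hx' : ((EtDesc.pullSh g).obj A).obj.map (b' ≫ b).op x = ru g A d (A.obj.map p₁.op σ) := by
    rw [← map_map, hx, map_ru, e₁, ru_res]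
  rw [e₂, ← ru_res] at hy
  refine ⟨_, b' ≫ b, ⟨w', (Scheme.Hom.comp_apply b'.left b.left w').trans ((congrArg b.left hw').trans hw)⟩, ?_⟩
  rw [hx', hy]
  refine eq_of_eqLoc fun z => (mem_eqLoc_ru g A d _ _ z).mpr ?_
  have key := congrArg (fun v => ((EtDesc.pullSh g).obj B).obj.map (b' ≫ b).op v) h
  rw [map_appH, map_appH, hx', hy, appH_ru, appH_ru] at key
  have h' := (mem_eqLoc_ru g B d (appH a P (A.obj.map p₁.op σ)) (appH a P (A.obj.map p₂.op σ')) z).mp
    (by rw [key, eqLoc_self]; trivial)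
  exact (mem_eqLoc_bij a ha P _ _ _).mp h'

variable {X' X : Scheme.{u}} (f : X' ⟶ X)

theorem pullVia_natural {T S X : Scheme.{u}} (g : T ⟶ S) (a : S ⟶ X) (b : T ⟶ X) (w : g ≫ a = b)
    {F G : EtDesc.Sh X} (c : F ⟶ G) :
    (EtDesc.pullVia g a b w F).hom ≫ (EtDesc.pullSh b).map c =
      (EtDesc.pullSh g).map ((EtDesc.pullSh a).map c) ≫ (EtDesc.pullVia g a b w G).hom := by
  unfold EtDesc.pullVia
  exact (((EtDesc.pullCompSh g a).symm ≪≫ EtDesc.pullCongrSh w).hom.naturality c).symm

theorem conj_natural {C : Type*} [Category C] {A B D A' B' D' : C} (e₁ : A ≅ D) (e₂ : B ≅ D) (e₁' : A' ≅ D') (e₂' : B' ≅ D')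
    (cA : A ⟶ A') (cB : B ⟶ B') (cD : D ⟶ D') (h₁ : e₁.hom ≫ cD = cA ≫ e₁'.hom) (h₂ : e₂.hom ≫ cD = cB ≫ e₂'.hom) :
    (e₁.hom ≫ e₂.inv) ≫ cB = cA ≫ e₁'.hom ≫ e₂'.inv := by
  have h : e₂.inv ≫ cB = cD ≫ e₂'.inv := by rw [Iso.inv_comp_eq, ← Category.assoc, Iso.eq_comp_inv, h₂]
  rw [Category.assoc, h, ← Category.assoc, h₁, Category.assoc]

/-- the canonical datum is natural -/
theorem canIso_natural {F G : EtDesc.Sh X} (b : F ⟶ G) :
    (EtDesc.canIso f F).hom ≫ (EtDesc.pullSh (pullback.snd f f)).map ((EtDesc.pullSh f).map b) =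
      (EtDesc.pullSh (pullback.fst f f)).map ((EtDesc.pullSh f).map b) ≫ (EtDesc.canIso f G).hom := by
  rw [canIso_hom, canIso_hom]
  exact conj_natural _ _ _ _ _ _ ((EtDesc.pullSh (pullback.fst f f ≫ f)).map b)
    (pullVia_natural _ _ _ _ b) (pullVia_natural _ _ _ _ b)

variable {f} (hf : EtDesc.IsUnivSubmersive f) (F : EtDesc.Sh X)

include hf in
theorem hom_ext_of_pull {G H : EtDesc.Sh X} {b c : G ⟶ H} (h : (EtDesc.pullSh f).map b = (EtDesc.pullSh f).map c) :
    b = c :=
  (existsUnique_hom G hf H _ (canIso_natural f c)).unique h rfl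

include hf in
/-- subsheaves with the same inverse image agree -/
theorem subsheaf_unique (G₁ G₂ : EtDesc.Sh X) (a₁ : G₁ ⟶ F) (a₂ : G₂ ⟶ F) [Mono a₁] [Mono a₂]
    (h : ∃ φ : (EtDesc.pullSh f).obj G₁ ≅ (EtDesc.pullSh f).obj G₂,
      φ.hom ≫ (EtDesc.pullSh f).map a₂ = (EtDesc.pullSh f).map a₁) :
    ∃ ψ : G₁ ≅ G₂, ψ.hom ≫ a₂ = a₁ := by
  obtain ⟨φ, hφ⟩ := h
  have hφ' : φ.inv ≫ (EtDesc.pullSh f).map a₁ = (EtDesc.pullSh f).map a₂ := by rw [← hφ, φ.inv_hom_id_assoc]
  have key : ∀ {G H : EtDesc.Sh X} (a : G ⟶ F) (b : H ⟶ F) [Mono b]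
      (θ : (EtDesc.pullSh f).obj G ⟶ (EtDesc.pullSh f).obj H), θ ≫ (EtDesc.pullSh f).map b = (EtDesc.pullSh f).map a →
      ∃ c : G ⟶ H, (EtDesc.pullSh f).map c = θ ∧ c ≫ b = a := by
    intro G H a b _ θ hθ
    haveI : Mono ((EtDesc.pullSh (pullback.snd f f)).map ((EtDesc.pullSh f).map b)) :=
      mono_of_injective_appH _ (injective_pullMap _ _ (injective_pullMap f b (injective_appH_of_mono b)))
    have hc : (EtDesc.canIso f G).hom ≫ (EtDesc.pullSh (pullback.snd f f)).map θ =
        (EtDesc.pullSh (pullback.fst f f)).map θ ≫ (EtDesc.canIso f H).hom := by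
      rw [← cancel_mono ((EtDesc.pullSh (pullback.snd f f)).map ((EtDesc.pullSh f).map b)), Category.assoc,
        ← Functor.map_comp, hθ, canIso_natural, Category.assoc, canIso_natural, ← Functor.map_comp_assoc, hθ]
    obtain ⟨c, hc, -⟩ := existsUnique_hom G hf H θ hc
    exact ⟨c, hc, hom_ext_of_pull hf (by rw [Functor.map_comp, hc, hθ])⟩
  obtain ⟨b, hb, hba⟩ := key a₁ a₂ φ.hom hφ
  obtain ⟨b', hb', hba'⟩ := key a₂ a₁ φ.inv hφ'
  exact ⟨⟨b, b', by rw [← cancel_mono a₁, Category.assoc, hba', hba, Category.id_comp],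
    by rw [← cancel_mono a₂, Category.assoc, hba, hba', Category.id_comp]⟩, hba⟩

section Exists

variable {G' : EtDesc.Sh X'} (a' : G' ⟶ (EtDesc.pullSh f).obj F) [Mono a']

/-- the sections whose pullback lies in the given subsheaf -/
def subDesc : Subfunctor F.obj where
  obj U := {s | ∃ t, appH a' ((EtCoh.bc f).obj U.unop) t = unitSect f F U.unop s}
  map {U U'} i := fun s ⟨t, ht⟩ =>
    ⟨G'.obj.map ((EtCoh.bc f).map i.unop).op t, by rw [← map_appH, ht]; exact (unitSect_map f F i.unop s).symm⟩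

theorem isSheaf_subDesc : Presheaf.IsSheaf X.smallEtaleTopology (subDesc F a').toFunctor := by
  rw [isSheaf_iff_isSheaf_of_type,
    (subDesc F a').isSheaf_iff ((isSheaf_iff_isSheaf_of_type _ _).1 F.property)]
  intro U s hs
  refine mem_range_of_locIm a' (injective_appH_of_mono a') _ _ fun p => ?_
  obtain ⟨V, c, hc, ⟨v, hv⟩⟩ := exists_mem_range_of_mem hs (pullback.fst U.unop.hom f p)
  obtain ⟨t, ht⟩ := hc
  obtain ⟨r, hr, -⟩ := Scheme.exists_preimage_of_isPullback (EtCoh.isPullback_bc_map f c) p v hv.symm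
  exact ⟨_, (EtCoh.bc f).map c, t, ⟨r, hr⟩, (unitSect_map f F c s).symm.trans ht.symm⟩

/-- the descended subsheaf -/
def subSh : EtDesc.Sh X := ⟨(subDesc F a').toFunctor, isSheaf_subDesc F a'⟩

/-- its inclusion -/
def subInc : subSh F a' ⟶ F := ObjectProperty.homMk (subDesc F a').ι

theorem subInc_injective (V : X.Etale) : Function.Injective (appH (subInc F a') V) := fun _ _ h => Subtype.ext h

/-- the comparison with the given subsheaf -/
def subLift : subSh F a' ⟶ (EtDesc.pushSh f).obj G' :=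
  ObjectProperty.homMk
    { app := fun U => TypeCat.ofHom fun s => s.2.choose
      naturality := fun U U' i => by
        ext s
        apply injective_appH_of_mono a'
        refine Eq.trans (((subSh F a').obj.map i s).2.choose_spec) ?_
        show unitSect f F U'.unop (F.obj.map i.unop.op s.1) = appH a' _ (G'.obj.map ((EtCoh.bc f).map i.unop).op s.2.choose)
        rw [unitSect_map, ← map_appH, s.2.choose_spec] }

/-- the comparison morphism -/
def subHom : (EtDesc.pullSh f).obj (subSh F a') ⟶ G' := ((EtDesc.adjSh f).homEquiv _ _).symm (subLift F a')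

theorem subHom_unit (U : X.Etale) (s : EtDesc.sect (subSh F a') U) :
    appH a' ((EtCoh.bc f).obj U) (appH (subHom F a') ((EtCoh.bc f).obj U) (unitSect f (subSh F a') U s)) =
      unitSect f F U (appH (subInc F a') U s) := by
  have h : ((EtDesc.adjSh f).homEquiv _ _) (subHom F a') = subLift F a' := Equiv.apply_symm_apply _ _
  rw [Adjunction.homEquiv_unit] at h
  have h' := congrArg (fun k : subSh F a' ⟶ (EtDesc.pushSh f).obj G' => k.hom.app (op U) s) h
  exact (congrArg (appH a' _) h').trans s.2.choose_spec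

theorem subHom_comp : subHom F a' ≫ a' = (EtDesc.pullSh f).map (subInc F a') := by
  refine hom_ext f fun U s => ?_
  rw [← appH_def, ← appH_def, appH_comp, subHom_unit,
    show unitSect f (subSh F a') U s = ru f (subSh F a') (𝟙 _) s by simp [ru], appH_ru]
  simp [ru]

include hf in
theorem isIso_subHom
    (φ : (EtDesc.pullSh (pullback.fst f f)).obj G' ≅ (EtDesc.pullSh (pullback.snd f f)).obj G')
    (hφ : φ.hom ≫ (EtDesc.pullSh (pullback.snd f f)).map a' =
      (EtDesc.pullSh (pullback.fst f f)).map a' ≫ (EtDesc.canIso f F).hom) : IsIso (subHom F a') := by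
  have hinj : ∀ V, Function.Injective (appH (subHom F a') V) := fun V x y h =>
    injective_pullMap f (subInc F a') (subInc_injective F a') V (by
      rw [← subHom_comp, appH_comp, appH_comp, h])
  haveI h1 : Sheaf.IsLocallyInjective (subHom F a') :=
    Presheaf.isLocallyInjective_of_injective _ _ fun V => hinj V.unop
  haveI h2 : Sheaf.IsLocallySurjective (subHom F a') := ⟨fun {V} x => by
    have hx : ∀ p : V.left, ∃ (W : X'.Etale) (c : W ⟶ V) (y : EtDesc.sect ((EtDesc.pullSh f).obj (subSh F a')) W),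
        p ∈ Set.range c.left ∧ appH (subHom F a') W y = G'.obj.map c.op x := by
      intro p
      obtain ⟨W, a, o, ε, σ, ⟨w, hw⟩, hW⟩ := exists_rep F f (appH a' V x) p
      let o' := (EtCoh.bc f).obj o
      let E := locIm a' o' (unitSect f F o σ)
      let q : o'.left ⟶ o.left := pullback.fst o.hom f
      have hεE : ε.left w ∈ E := by
        refine ⟨W, ε, G'.obj.map a.op x, ⟨w, rfl⟩, ?_⟩
        rw [← map_appH, hW]
        rfl
      have hsat : q ⁻¹' (q '' E) = E := by
        refine Set.Subset.antisymm ?_ (Set.subset_preimage_image _ _)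
        rintro z ⟨z₀, hz₀, hzz⟩
        obtain ⟨r, hr₁, hr₂⟩ := Scheme.Pullback.exists_preimage_pullback (f := q) (g := q) z₀ z hzz
        let p₁ := pullback.fst f f
        let p₂ := pullback.snd f f
        let k := p₁ ≫ f
        let T : (EtDesc.X2 f).Etale := (EtCoh.bc k).obj o
        let m₁ : T.left ⟶ o'.left := pullback.lift (pullback.fst o.hom k) (T.hom ≫ p₁) (by
          rw [Category.assoc]; exact pullback.condition)
        let m₂ : T.left ⟶ o'.left := pullback.lift (pullback.fst o.hom k) (T.hom ≫ p₂) (by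
          rw [Category.assoc, show p₂ ≫ f = k from pullback.condition.symm]; exact pullback.condition)
        let δ₁ : T ⟶ (EtCoh.bc p₁).obj o' := mkδ _ m₁ (pullback.lift_snd _ _ _)
        let δ₂ : T ⟶ (EtCoh.bc p₂).obj o' := mkδ _ m₂ (pullback.lift_snd _ _ _)
        have h₁ : δ₁.left ≫ pullback.fst o'.hom p₁ = m₁ := mkδ_fst _ _ _
        have h₂ : δ₂.left ≫ pullback.fst o'.hom p₂ = m₂ := mkδ_fst _ _ _
        have he : (pullback.fst q q ≫ o'.hom) ≫ f = (pullback.snd q q ≫ o'.hom) ≫ f := by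
          have e : o'.hom ≫ f = q ≫ o.hom := pullback.condition.symm
          rw [Category.assoc, Category.assoc, e, ← Category.assoc, pullback.condition, Category.assoc]
        let c : pullback q q ⟶ T.left := pullback.lift (pullback.fst q q ≫ q)
          (pullback.lift (pullback.fst q q ≫ o'.hom) (pullback.snd q q ≫ o'.hom) he) (by
            simp only [k, p₁]
            rw [← Category.assoc (pullback.lift _ _ he), pullback.lift_fst, Category.assoc, Category.assoc]
            exact congrArg (pullback.fst q q ≫ ·) pullback.condition)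
        have hc₁ : c ≫ m₁ = pullback.fst q q := by
          apply pullback.hom_ext
          · rw [Category.assoc, pullback.lift_fst, pullback.lift_fst]
          · rw [Category.assoc, pullback.lift_snd, ← Category.assoc]
            exact (congrArg (· ≫ p₁) (pullback.lift_snd _ _ _)).trans (pullback.lift_fst _ _ _)
        have hc₂ : c ≫ m₂ = pullback.snd q q := by
          apply pullback.hom_ext
          · rw [Category.assoc, pullback.lift_fst, pullback.lift_fst]
            exact pullback.condition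
          · rw [Category.assoc, pullback.lift_snd, ← Category.assoc]
            exact (congrArg (· ≫ p₂) (pullback.lift_snd _ _ _)).trans (pullback.lift_snd _ _ _)
        have hcan := appH_canIso_unit F o σ δ₁ δ₂ (𝟙 T)
          (((congrArg (fun z => z ≫ _) h₁).trans (pullback.lift_fst _ _ _)).trans (Category.id_comp _).symm)
          (((congrArg (fun z => z ≫ _) h₂).trans (pullback.lift_fst _ _ _)).trans (Category.id_comp _).symm)
        have hr₁' : c r ∈ locIm ((EtDesc.pullSh p₁).map a') T (ru p₁ _ δ₁ (unitSect f F o σ)) := by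
          refine (mem_locIm_ru p₁ a' δ₁ _ (c r)).mpr ?_
          rw [h₁, ← Scheme.Hom.comp_apply, hc₁]
          exact (congrArg (· ∈ E) hr₁).mpr hz₀
        obtain ⟨Z, d, y, hd, hy⟩ := hr₁'
        have : c r ∈ locIm ((EtDesc.pullSh p₂).map a') T (ru p₂ _ δ₂ (unitSect f F o σ)) := by
          refine ⟨Z, d, appH φ.hom Z y, hd, ?_⟩
          rw [← hcan, map_appH, hy, ← appH_comp, ← hφ, appH_comp]
        have := (mem_locIm_ru p₂ a' δ₂ _ (c r)).mp this
        rw [h₂, ← Scheme.Hom.comp_apply, hc₂] at this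
        exact (congrArg (· ∈ E) hr₂).mp this
      have hO : IsOpen (q '' E) := by
        refine (isQuotientMap_of_isPullback hf (IsPullback.of_hasPullback o.hom f).flip o.left (𝟙 _)).isOpen_preimage.mp ?_
        have e : pullback.snd q (𝟙 o.left) = pullback.fst q (𝟙 o.left) ≫ q :=
          ((pullback.condition (f := q) (g := 𝟙 o.left)).trans (Category.comp_id _)).symm
        have hpre : (pullback.snd q (𝟙 o.left) : _ → o.left) ⁻¹' (q '' E) =
            pullback.fst q (𝟙 o.left) ⁻¹' (q ⁻¹' (q '' E)) := by rw [e]; rfl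
        refine (congrArg IsOpen (hpre.trans (congrArg _ hsat))).mpr ?_
        exact (isOpen_locIm a' o' _).preimage (pullback.fst q (𝟙 o.left)).continuous
      let O : o.left.Opens := ⟨_, hO⟩
      haveI := o.prop
      let oO : X.Etale := Scheme.Etale.mk (O.ι ≫ o.hom)
      let j : oO ⟶ o := MorphismProperty.Over.homMk O.ι rfl
      have hσ : F.obj.map j.op σ ∈ (subDesc F a').obj (op oO) := by
        refine mem_range_of_locIm a' (injective_appH_of_mono a') _ _ fun z => ?_
        have hz : ((EtCoh.bc f).map j).left z ∈ E := hsat.le (by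
          show q (((EtCoh.bc f).map j).left z) ∈ q '' E
          rw [← Scheme.Hom.comp_apply, show ((EtCoh.bc f).map j).left ≫ q = _ from bc_map_fst f j, Scheme.Hom.comp_apply]
          exact (Scheme.Opens.range_ι O).le ⟨_, rfl⟩)
        obtain ⟨Z, d, y, ⟨u, hu⟩, hy⟩ := hz
        obtain ⟨Q, e₁, e₂, hee, hQ⟩ := exists_fibreProd ((EtCoh.bc f).map j) d
        obtain ⟨t, ht, -⟩ := hQ z u hu.symm
        refine ⟨Q, e₁, G'.obj.map e₂.op y, ⟨t, ht⟩, ?_⟩
        show ((EtDesc.pullSh f).obj F).obj.map e₁.op (unitSect f F oO (F.obj.map j.op σ)) = _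
        rw [unitSect_map, map_map, hee, ← map_map, hy, map_appH]
      obtain ⟨u, hu⟩ := (Scheme.Opens.range_ι O).ge (⟨_, hεE, rfl⟩ : q (ε.left w) ∈ q '' E)
      obtain ⟨Z, e₁, e₂, hee, hZ⟩ := exists_fibreProd ε ((EtCoh.bc f).map j)
      obtain ⟨r, hr, -⟩ := Scheme.exists_preimage_of_isPullback (EtCoh.isPullback_bc_map f j) (ε.left w) u hu.symm
      obtain ⟨t, ht, -⟩ := hZ w r hr.symm
      refine ⟨Z, e₁ ≫ a, ru f (subSh F a') e₂ (⟨F.obj.map j.op σ, hσ⟩ : EtDesc.sect (subSh F a') oO), ⟨t, ?_⟩, ?_⟩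
      · exact (Scheme.Hom.comp_apply e₁.left a.left t).trans ((congrArg a.left ht).trans hw)
      · apply injective_appH_of_mono a'
        rw [← appH_comp, subHom_comp, appH_ru, ← map_appH, ← map_map, hW, map_ru, hee, ← ru_res]
        rfl
    choose W c y hc hy using hx
    have hcov : Sieve.ofArrows W c ∈ X'.smallEtaleTopology V := by
      rw [Scheme.ofArrows_mem_smallEtaleTopology_iff]
      exact Set.eq_univ_of_forall fun v => Set.mem_iUnion.mpr ⟨v, hc v⟩
    refine X'.smallEtaleTopology.superset_covering ?_ hcov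
    rintro Z g ⟨_, d, _, ⟨v⟩, rfl⟩
    refine (Presheaf.imageSieve _ _).downward_closed ?_ d
    exact ⟨y v, hy v⟩⟩
  exact (Sheaf.isLocallyBijective_iff_isIso _).mp ⟨h1, h2⟩

end Exists

include hf in
/-- **descent of subsheaves** -/
theorem exists_subsheaf (G' : EtDesc.Sh X') (a' : G' ⟶ (EtDesc.pullSh f).obj F) [Mono a']
    (h : ∃ φ : (EtDesc.pullSh (pullback.fst f f)).obj G' ≅ (EtDesc.pullSh (pullback.snd f f)).obj G',
      φ.hom ≫ (EtDesc.pullSh (pullback.snd f f)).map a' =
        (EtDesc.pullSh (pullback.fst f f)).map a' ≫ (EtDesc.canIso f F).hom) :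
    ∃ (G : EtDesc.Sh X) (a : G ⟶ F) (_ : Mono a) (ψ : (EtDesc.pullSh f).obj G ≅ G'),
      ψ.hom ≫ a' = (EtDesc.pullSh f).map a := by
  obtain ⟨φ, hφ⟩ := h
  haveI := isIso_subHom hf F a' φ hφ
  exact ⟨subSh F a', subInc F a', mono_of_injective_appH _ (subInc_injective F a'), asIso (subHom F a'), subHom_comp F a'⟩

end Groth.Agent.EtShDesc
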