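import Groth.Agent.EtShDesc.Effective
import Groth.Agent.EtShDesc.BC

/-!
Sections descend along surjective morphisms when base change is injective.
-/

set_option autoImplicit false
set_option backward.isDefEq.respectTransparency false
set_option backward.isDefEq.respectTransparency.types false
set_option maxHeartbeats 1000000
set_option linter.style.haveILetI false
set_option linter.unusedSectionVars false

universe u

open CategoryTheory CategoryTheory.Limits AlgebraicGeometry Opposite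

noncomputable section

namespace Groth.Agent.EtShDesc

open Groth.Agent.EtShLib Groth.Agent.EtShSep

variable (S : Scheme.{u})

/-- subsets of étale schemes -/
def subsetsPre : S.Etaleᵒᵖ ⥤ Type (u + 1) where
  obj U := ULift.{u + 1} (Set U.unop.left)
  map c := TypeCat.ofHom fun A => ⟨c.unop.left ⁻¹' A.down⟩
  map_id U := by ext A; rfl
  map_comp c d := by ext A; rfl

theorem isSheaf_subsetsPre : Presheaf.IsSheaf S.smallEtaleTopology (subsetsPre S) := by
  rw [isSheaf_iff_isSheaf_of_type]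
  intro U R hR x hx
  let A : Set U.left := {p | ∀ (V : S.Etale) (g : V ⟶ U) (hg : R g) (v : V.left), g.left v = p → v ∈ (x g hg).down}
  refine ⟨(⟨A⟩ : ULift.{u + 1} (Set U.left)), fun V g hg => ?_, fun B hB => ?_⟩
  · apply ULift.ext
    ext v
    refine ⟨fun h => h V g hg v rfl, fun h V' g' hg' v' e => ?_⟩
    obtain ⟨P, a, b, hab, hP⟩ := exists_fibreProd g g'
    obtain ⟨z, hza, hzb⟩ := hP v v' e.symm
    have key := congrArg ULift.down (hx a b hg hg' hab)
    rw [← hzb]
    change z ∈ b.left ⁻¹' (x g' hg').down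
    rw [show b.left ⁻¹' (x g' hg').down = a.left ⁻¹' (x g hg).down from key.symm]
    show a.left z ∈ (x g hg : ULift.{u + 1} (Set V.left)).down
    rw [hza]
    exact h
  · apply ULift.ext
    ext p
    have hB' : ∀ (V : S.Etale) (g : V ⟶ U) (hg : R g), g.left ⁻¹' (B : ULift.{u + 1} (Set U.left)).down = (x g hg).down :=
      fun V g hg => congrArg ULift.down (hB g hg)
    refine ⟨fun h V g hg v e => ?_, fun h => ?_⟩
    · rw [← hB' V g hg]
      show g.left v ∈ (B : ULift.{u + 1} (Set U.left)).down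
      rw [e]
      exact h
    · obtain ⟨V, g, hg, v, hv⟩ := exists_mem_range_of_mem hR p
      have := h V g hg v hv
      rw [← hB' V g hg] at this
      have h' : g.left v ∈ (B : ULift.{u + 1} (Set U.left)).down := this
      rwa [hv] at h'

/-- the sheaf of subsets -/
def subsetsSh : EtDesc.Sh S := ⟨subsetsPre S, isSheaf_subsetsPre S⟩

variable {S} {Y : Scheme.{u}} (h : Y ⟶ S)

/-- an open subset containing the image is everything when pullback of sections is injective -/
theorem eq_univ_of_injective (hinj : ∀ F : EtDesc.Sh S, Function.Injective (EtDesc.secPull h F)) (E : Set S)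
    (hE : IsOpen E) (hY : ∀ y, h y ∈ E) : E = Set.univ := by
  let G := subsetsSh S
  let e : EtDesc.sect G (EtCoh.top S) := (⟨(E : Set S)⟩ : ULift.{u + 1} (Set S))
  let e' : EtDesc.sect G (EtCoh.top S) := (⟨(Set.univ : Set S)⟩ : ULift.{u + 1} (Set S))
  suffices e = e' from congrArg (fun z : ULift.{u + 1} (Set S) => z.down) this
  refine hinj G ?_
  rw [secPull_eq, secPull_eq]
  refine eq_of_eqLoc fun y => (mem_eqLoc_pb G h (o := EtCoh.top S) h _ e e' y).mpr ?_
  let O : S.Opens := ⟨E, hE⟩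
  refine ⟨Scheme.Etale.mk O.ι, tT _, (Scheme.Opens.range_ι O).ge (hY y), ?_⟩
  apply ULift.ext
  ext z
  exact ⟨fun _ => trivial, fun _ => (Scheme.Opens.range_ι O).le ⟨z, rfl⟩⟩

variable {X Xb Yb : Scheme.{u}} (h : Y ⟶ X) (p : Xb ⟶ X) (hb : Yb ⟶ Xb) (pY : Yb ⟶ Y) (F : EtDesc.Sh X)

theorem res_eq_conv_pb (v : Yb ⟶ X) (hv : hb ≫ p = v) (x : Sec F p) :
    res F hb p v hv x = conv F p hb v hv
      (pb ((EtDesc.pullSh p).obj F) hb (o := EtCoh.top Xb) hb (Category.comp_id hb) x) := by
  rw [conv, pb, res, tr]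

theorem bijective_res_of_secPull (v : Yb ⟶ X) (hv : hb ≫ p = v) :
    (Function.Injective (EtDesc.secPull hb ((EtDesc.pullSh p).obj F)) → Function.Injective (res F hb p v hv)) ∧
      (Function.Surjective (EtDesc.secPull hb ((EtDesc.pullSh p).obj F)) → Function.Surjective (res F hb p v hv)) := by
  have e : res F hb p v hv = fun x => conv F p hb v hv (EtDesc.secPull hb ((EtDesc.pullSh p).obj F) x) :=
    funext fun x => by rw [res_eq_conv_pb, secPull_eq]
  rw [e]
  exact ⟨fun hi => (bijective_conv F p hb v hv).1.comp hi, fun hs => (bijective_conv F p hb v hv).2.comp hs⟩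

/-- injectivity descends along a surjection -/
theorem injective_secPull_of_surjective (w : hb ≫ p = pY ≫ h) (hp : Function.Surjective p.base)
    (hinj : ∀ Fb : EtDesc.Sh Xb, Function.Injective (EtDesc.secPull hb Fb)) :
    Function.Injective (EtDesc.secPull h F) := by
  intro s s' e
  rw [secPull_eq, secPull_eq] at e
  have e' := congrArg (res F pY h (hb ≫ p) w.symm) e
  rw [res_pb, res_pb, pb_congr F _ (o := EtCoh.top X) w.symm, pb_congr F _ (o := EtCoh.top X) w.symm,
    ← res_pb F hb p (hb ≫ p) rfl (o := EtCoh.top X) p (Category.comp_id p) s,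
    ← res_pb F hb p (hb ≫ p) rfl (o := EtCoh.top X) p (Category.comp_id p) s'] at e'
  have e'' := (bijective_res_of_secPull p hb F (hb ≫ p) rfl).1 (hinj _) e'
  refine eq_of_eqLoc fun q => ?_
  obtain ⟨z, rfl⟩ := hp q
  refine (mem_eqLoc_pb F p (o := EtCoh.top X) p (Category.comp_id p) s s' z).mp ?_
  rw [e'', eqLoc_self]
  trivial

/-- **sections descend along a surjection** -/
theorem bijective_secPull_of_surjective (w : hb ≫ p = pY ≫ h) (hp : Function.Surjective p.base)
    (hbij : ∀ Fb : EtDesc.Sh Xb, Function.Bijective (EtDesc.secPull hb Fb))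
    (hmono : ∀ Fb : EtDesc.Sh Xb, Mono (EtBC.baseChange0Sh p h pY hb w Fb)) :
    Function.Bijective (EtDesc.secPull h F) := by
  have hinj := fun F' : EtDesc.Sh X => injective_secPull_of_surjective h p hb pY F' w hp fun Fb => (hbij Fb).1
  refine ⟨hinj F, fun t => ?_⟩
  let G := (EtDesc.pullSh p).obj F
  let Pp := (EtDesc.pushSh p).obj G
  let η : F ⟶ Pp := (EtDesc.adjSh p).unit.app F
  obtain ⟨sb, hsb⟩ := (bijective_res_of_secPull p hb F (pY ≫ h) w).2 (hbij _).2 (res F pY h (pY ≫ h) rfl t)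
  obtain ⟨σ, hσ⟩ := (bijective_toSec F p ((EtCoh.bc p).obj (EtCoh.top X)) _ rfl).2
    (res F ((EtCoh.bc p).obj (EtCoh.top X)).hom p _ rfl sb)
  let T₁ : EtDesc.sect ((EtDesc.pullSh h).obj Pp) (EtCoh.top Y) :=
    ru h Pp (mkδ h (T := EtCoh.top Y) (o := EtCoh.top X) h ((Category.comp_id _).trans (Category.id_comp _).symm)) σ
  let T₂ : EtDesc.sect ((EtDesc.pullSh h).obj Pp) (EtCoh.top Y) := appH ((EtDesc.pullSh h).map η) (EtCoh.top Y) t
  let bc0 := EtBC.baseChange0Sh p h pY hb w G
  have hbc : ∀ {A₁ : Y.Etale} {U : X.Etale} (ε : A₁ ⟶ (EtCoh.bc h).obj U) (z : EtDesc.sect G ((EtCoh.bc p).obj U)),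
      appH bc0 A₁ (ru h Pp ε z) =
        ru hb G ((EtCoh.bc pY).map ε ≫ Groth.Agent.EtIntegral.bcSwap p h pY hb w U) z := by
    intro A₁ U ε z
    rw [ru, ← map_appH, appH_def, baseChange0Sh_unit, ← map_ru]
    rfl
  have hTT : T₁ = T₂ := by
    haveI := hmono G
    have hlocinj : Function.Injective (appH bc0 (EtCoh.top Y)) := by
      haveI : Mono bc0.hom := (sheafToPresheaf _ _).map_mono bc0
      haveI : Mono (bc0.hom.app (op (EtCoh.top Y))) := inferInstance
      exact (mono_iff_injective (bc0.hom.app (op (EtCoh.top Y)))).mp inferInstance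
    apply hlocinj
    refine eq_of_eqLoc fun y => ?_
    obtain ⟨W, a, o, ε, s, ⟨w₀, hw₀⟩, hW⟩ := exists_rep F h t y
    let W' := (EtCoh.bc pY).obj W
    refine ⟨W, a, ⟨w₀, hw₀⟩, ?_⟩
    rw [map_appH, map_appH]
    have h₂ : ((EtDesc.pullSh h).obj Pp).obj.map a.op T₂ = ru h Pp ε (unitSect p F o s) := by
      show ((EtDesc.pullSh h).obj Pp).obj.map a.op (appH ((EtDesc.pullSh h).map η) _ t) = _
      rw [map_appH, hW, appH_ru]
      rfl
    have h₁ : ((EtDesc.pullSh h).obj Pp).obj.map a.op T₁ = ru h Pp ε (Pp.obj.map (tT o).op σ) := by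
      rw [ru_res]
      refine (map_ru h Pp a _ σ).trans (congrArg (fun d => ru h Pp d σ) (bc_ext h ?_))
      refine Eq.trans ?_ (comp_map_fst h ε (tT o)).symm
      refine (Category.assoc _ _ _).trans ((congrArg (a.left ≫ ·) (mkδ_fst _ _ _)).trans ?_)
      exact (congrArg (· ≫ h) ((Category.comp_id _).symm.trans (MorphismProperty.Over.w a))).trans (bc_w h ε).symm
    rw [h₁, h₂, hbc, hbc]
    let n := ((EtCoh.bc pY).map ε ≫ Groth.Agent.EtIntegral.bcSwap p h pY hb w o)
    have hn : n.left ≫ pullback.fst ((EtCoh.bc p).obj o).hom hb ≫ pullback.fst o.hom p =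
        pullback.fst W.hom pY ≫ ε.left ≫ pullback.fst o.hom h := by
      refine (Category.assoc ((EtCoh.bc pY).map ε).left _ _).trans ?_
      rw [show pullback.fst ((EtCoh.bc p).obj o).hom hb = pullback.fst (pullback.snd o.hom p) hb from rfl,
        Groth.Agent.EtIntegral.bcSwap_fst]
      refine (Category.assoc _ _ _).symm.trans ((congrArg (· ≫ pullback.fst o.hom h) (bc_map_fst _ ε)).trans ?_)
      exact Category.assoc _ _ _
    apply (bijective_toSec G hb W' (W'.hom ≫ hb) rfl).1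
    rw [toSec_ru, toSec_ru]
    apply (bijective_conv F p (W'.hom ≫ hb) ((W'.hom ≫ hb) ≫ p) rfl).1
    rw [conv_pb F p _ _ rfl _ _ _ rfl, conv_pb F p _ _ rfl _ _ _ rfl]
    have k₁ : toSec F p ((EtCoh.bc p).obj o) (((EtCoh.bc p).obj o).hom ≫ p) rfl (Pp.obj.map (tT o).op σ) =
        res F ((EtCoh.bc p).obj o).hom p _ rfl sb := by
      refine (toSec_map F p ((EtCoh.bc p).map (tT o)) _ rfl _ rfl σ).trans ?_
      rw [hσ]
      exact res_res F _ _ _ (MorphismProperty.Over.w ((EtCoh.bc p).map (tT o))) _ _ _ _ _ _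
    have k₂ : toSec F p ((EtCoh.bc p).obj o) (((EtCoh.bc p).obj o).hom ≫ p) rfl (unitSect p F o s) =
        pb F (((EtCoh.bc p).obj o).hom ≫ p) (pullback.fst o.hom p) pullback.condition s := by
      rw [show unitSect p F o s = ru p F (𝟙 _) s by simp [ru], toSec_ru]
      exact pb_congr F _ (o := o) (Category.id_comp _) _ _
    rw [k₁, k₂, res_res F _ _ _ ((bc_w hb n).trans rfl), res_pb,
      ← res_res F hb W'.hom (W'.hom ≫ hb) rfl p (pY ≫ h) _ w (by rw [← w, Category.assoc]) sb, hsb,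
      res_res F pY W'.hom (pullback.fst W.hom pY ≫ W.hom) pullback.condition.symm,
      ← res_res F W.hom (pullback.fst W.hom pY) _ rfl h (W.hom ≫ h) _ rfl (by
        rw [← Category.assoc, pullback.condition, Category.assoc, Category.assoc, w]; rfl) t,
      ← toSec_res F h W (W.hom ≫ h) rfl t, ← tT_eq a, hW, toSec_ru, res_pb]
    exact pb_congr F _ (o := o) (hn.symm.trans (Category.assoc _ _ _).symm) _ _
  let E : Set X := {x | ∃ (U : X.Etale) (s : EtDesc.sect F U), x ∈ Set.range U.hom ∧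
    unitSect p F U s = Pp.obj.map (tT U).op σ}
  have hE : IsOpen E := by
    refine isOpen_iff_forall_mem_open.mpr fun x hx0 => ?_
    obtain ⟨U, s, hx, e⟩ := hx0
    haveI := U.prop
    exact ⟨Set.range U.hom, fun x' hx' => ⟨U, s, hx', e⟩, U.hom.isOpenMap.isOpen_range, hx⟩
  have hY : ∀ y, h y ∈ E := fun y => by
    obtain ⟨W, a, o, ε, s, ⟨w₀, hw₀⟩, hW⟩ := exists_rep F h t y
    have h₂ : ((EtDesc.pullSh h).obj Pp).obj.map a.op T₂ = ru h Pp ε (unitSect p F o s) := by
      show ((EtDesc.pullSh h).obj Pp).obj.map a.op (appH ((EtDesc.pullSh h).map η) _ t) = _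
      rw [map_appH, hW, appH_ru]
      rfl
    have h₁ : ((EtDesc.pullSh h).obj Pp).obj.map a.op T₁ = ru h Pp ε (Pp.obj.map (tT o).op σ) := by
      rw [ru_res]
      refine (map_ru h Pp a _ σ).trans (congrArg (fun d => ru h Pp d σ) (bc_ext h ?_))
      refine Eq.trans ?_ (comp_map_fst h ε (tT o)).symm
      refine (Category.assoc _ _ _).trans ((congrArg (a.left ≫ ·) (mkδ_fst _ _ _)).trans ?_)
      exact (congrArg (· ≫ h) ((Category.comp_id _).symm.trans (MorphismProperty.Over.w a))).trans (bc_w h ε).symm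
    rw [← hTT, h₁] at h₂
    obtain ⟨U, c, ⟨z, hz⟩, hc⟩ : (ε.left ≫ pullback.fst o.hom h) w₀ ∈ eqLoc Pp o _ _ :=
      (mem_eqLoc_ru h Pp (T := W) ε (Pp.obj.map (tT o).op σ) (unitSect p F o s) w₀).mp (by rw [h₂, eqLoc_self]; trivial)
    refine ⟨U, F.obj.map c.op s, ⟨z, ?_⟩, ?_⟩
    · have e : U.hom z = o.hom (c.left z) :=
        (congrArg (fun k : U.left ⟶ X => k z) (MorphismProperty.Over.w c)).symm.trans (Scheme.Hom.comp_apply _ _ _)
      refine e.trans ((congrArg o.hom hz).trans ?_)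
      rw [← Scheme.Hom.comp_apply, bc_w h ε, Scheme.Hom.comp_apply, ← hw₀]
      exact congrArg h ((congrArg (fun k : W.left ⟶ Y => k w₀)
        ((Category.comp_id _).symm.trans (MorphismProperty.Over.w a))).symm)
    · rw [unitSect_map]
      refine hc.symm.trans ?_
      rw [map_map, tT_eq (c ≫ tT o)]
  have hall := eq_univ_of_injective h hinj E hE hY
  choose U s hU hs using fun x => (Set.eq_univ_iff_forall.mp hall x : x ∈ E)
  have hηinj : ∀ (o : X.Etale), Function.Injective (unitSect p F o) := fun o s₁ s₂ e => eq_of_eqLoc fun q => by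
    obtain ⟨z, hz⟩ := hp (o.hom q)
    obtain ⟨r, hr, -⟩ := Scheme.Pullback.exists_preimage_pullback (f := o.hom) (g := p) q z hz.symm
    rw [← hr]
    refine (mem_eqLoc_unit p F o s₁ s₂ r).mp ?_
    rw [e, eqLoc_self]
    trivial
  obtain ⟨s₀, hs₀⟩ := exists_amalg (G := F) (P := EtCoh.top X) U (fun x => tT (U x)) (fun x => ⟨x, hU x⟩) s
    (fun i k V a b _ => by
      apply hηinj V
      rw [unitSect_map, unitSect_map, hs, hs]
      refine (map_map (G := Pp) (tT (U i)) a σ).trans (Eq.trans ?_ (map_map (G := Pp) (tT (U k)) b σ).symm)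
      rw [tT_eq (a ≫ tT (U i)), tT_eq (b ≫ tT (U k))])
  have hση : unitSect p F (EtCoh.top X) s₀ = σ := eq_of_eqLoc fun q => by
    obtain ⟨u, hu⟩ := hU (pullback.fst (EtCoh.top X).hom p q)
    obtain ⟨r, hr, -⟩ := Scheme.exists_preimage_of_isPullback (EtCoh.isPullback_bc_map p (tT (U _))) q u hu.symm
    refine ⟨_, (EtCoh.bc p).map (tT (U _)), ⟨r, hr⟩, ?_⟩
    rw [← unitSect_map, hs₀, hs]
    rfl
  refine ⟨s₀, ?_⟩
  have ηinj : Function.Injective (appH ((EtDesc.pullSh h).map η) (EtCoh.top Y)) := fun x y e => eq_of_eqLoc fun q => by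
    obtain ⟨W, a, o, ε, s₁, ⟨w₀, hw₀⟩, hx⟩ := exists_rep F h x q
    obtain ⟨W', a', o', ε', s₂, ⟨w₁, hw₁⟩, hy⟩ := exists_rep F h (((EtDesc.pullSh h).obj F).obj.map a.op y) w₀
    rw [map_map] at hy
    haveI := o.prop
    haveI := o'.prop
    let P : X.Etale := Scheme.Etale.mk (pullback.fst o.hom o'.hom ≫ o.hom)
    let c : P ⟶ o := MorphismProperty.Over.homMk (pullback.fst o.hom o'.hom) rfl
    let c' : P ⟶ o' := MorphismProperty.Over.homMk (pullback.snd o.hom o'.hom) pullback.condition.symm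
    have hm₁ := bc_w h (a' ≫ ε)
    have hm₂ := bc_w h ε'
    let δ : W' ⟶ (EtCoh.bc h).obj P := mkδ h (pullback.lift _ _ (hm₁.trans hm₂.symm)) (by
      show _ ≫ pullback.fst o.hom o'.hom ≫ o.hom = _
      rw [← Category.assoc, pullback.lift_fst]
      exact hm₁)
    have e₁ : a' ≫ ε = δ ≫ (EtCoh.bc h).map c := bc_ext h (by
      rw [comp_map_fst, mkδ_fst]
      exact (pullback.lift_fst _ _ _).symm)
    have e₂ : ε' = δ ≫ (EtCoh.bc h).map c' := bc_ext h (by
      rw [comp_map_fst, mkδ_fst]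
      exact (pullback.lift_snd _ _ _).symm)
    have hx' : ((EtDesc.pullSh h).obj F).obj.map (a' ≫ a).op x = ru h F δ (F.obj.map c.op s₁) := by
      rw [← map_map, hx, map_ru, ru_res, e₁]
    rw [e₂, ← ru_res] at hy
    refine ⟨_, a' ≫ a, ⟨w₁, (Scheme.Hom.comp_apply a'.left a.left w₁).trans ((congrArg a.left hw₁).trans hw₀)⟩, ?_⟩
    rw [hx', hy]
    refine eq_of_eqLoc fun z => (mem_eqLoc_ru h F δ _ _ z).mpr ?_
    have key := congrArg (fun v => ((EtDesc.pullSh h).obj Pp).obj.map (a' ≫ a).op v) e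
    rw [map_appH, map_appH, hx', hy, appH_ru, appH_ru] at key
    have h' : (δ.left ≫ pullback.fst P.hom h) z ∈ eqLoc Pp P (appH η P (F.obj.map c.op s₁))
        (appH η P (F.obj.map c'.op s₂)) :=
      (mem_eqLoc_ru h Pp δ _ _ z).mp (by rw [key, eqLoc_self]; trivial)
    exact (mem_eqLoc_bij η hηinj P _ _ _).mp h'
  apply ηinj
  refine Eq.trans ?_ hTT
  rw [secPull_eq, pb, appH_ru]
  show ru h Pp _ (unitSect p F (EtCoh.top X) s₀) = _
  rw [hση]

end Groth.Agent.EtShDesc
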